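import Cfsg.Agent.Lib.Classical.SLClassBound.ClassMap
import Cfsg.Agent.Lib.Classical.UnitarySemisimple

/-!
Polynomials in a unitary matrix and their adjoints.
-/

set_option autoImplicit false
set_option linter.style.haveILetI false
set_option linter.unusedSectionVars false

namespace CfsgLib.Classical.SUClassBound

open Polynomial Matrix CfsgLib.Classical.UnitaryConj CfsgLib.Classical.UnitaryTwistPoly
open scoped MatrixGroups

variable {K : Type*} [Field K] (σ : K →+* K) {n : ℕ}

/-- The Hermitian form of the involution. -/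
def herm (u v : Fin n → K) : K := u ⬝ᵥ (σ ∘ v)

theorem herm_add_left (u u' v : Fin n → K) : herm σ (u + u') v = herm σ u v + herm σ u' v :=
  add_dotProduct _ _ _

theorem herm_smul_left (c : K) (u v : Fin n → K) : herm σ (c • u) v = c * herm σ u v :=
  smul_dotProduct c u _

theorem herm_add_right (u v v' : Fin n → K) : herm σ u (v + v') = herm σ u v + herm σ u v' := by
  rw [herm, show σ ∘ (v + v') = σ ∘ v + σ ∘ v' from funext fun i => map_add σ _ _, dotProduct_add]
  rfl

theorem herm_smul_right (c : K) (u v : Fin n → K) : herm σ u (c • v) = σ c * herm σ u v := by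
  rw [herm, show σ ∘ (c • v) = σ c • (σ ∘ v) from funext fun i => map_mul σ _ _, dotProduct_smul]
  rfl

theorem herm_zero_right (u : Fin n → K) : herm σ u 0 = 0 := by
  simpa using herm_smul_right σ 0 u 0

theorem herm_comm (hσ : ∀ x, σ (σ x) = x) (u v : Fin n → K) : σ (herm σ u v) = herm σ v u := by
  simp only [herm, dotProduct, Function.comp_apply, map_sum, map_mul, hσ]
  exact Finset.sum_congr rfl fun i _ => mul_comm _ _

theorem adj_map (hσ : ∀ x, σ (σ x) = x) (M : Matrix (Fin n) (Fin n) K) : (adj σ M).map σ = Mᵀ := by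
  ext i j
  simp [adj, hσ]

theorem comp_mulVec (N : Matrix (Fin n) (Fin n) K) (v : Fin n → K) : σ ∘ (N *ᵥ v) = N.map σ *ᵥ (σ ∘ v) :=
  funext fun i => RingHom.map_mulVec σ N v i

theorem herm_mulVec (hσ : ∀ x, σ (σ x) = x) (M : Matrix (Fin n) (Fin n) K) (u v : Fin n → K) :
    herm σ (M *ᵥ u) v = herm σ u (adj σ M *ᵥ v) := by
  rw [herm, herm, comp_mulVec, adj_map σ hσ, Matrix.dotProduct_mulVec u, Matrix.vecMul_transpose]

theorem herm_mulVec_right (hσ : ∀ x, σ (σ x) = x) (M : Matrix (Fin n) (Fin n) K) (u v : Fin n → K) :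
    herm σ u (M *ᵥ v) = herm σ (adj σ M *ᵥ u) v := by
  rw [herm_mulVec σ hσ, adj_adj σ hσ]

theorem herm_nondeg (hσ : ∀ x, σ (σ x) = x) {v : Fin n → K} (h : ∀ u, herm σ u v = 0) : v = 0 := by
  funext i
  have := h (Pi.single i 1)
  rw [herm, single_dotProduct, one_mul, Function.comp_apply] at this
  exact (map_eq_zero σ).mp this

theorem adj_pow (M : Matrix (Fin n) (Fin n) K) (k : ℕ) : adj σ (M ^ k) = adj σ M ^ k := by
  induction k with
  | zero => exact adj_one σ
  | succ k ih => rw [pow_succ', adj_mul, ih, pow_succ]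

theorem adj_aeval (M : Matrix (Fin n) (Fin n) K) (p : K[X]) :
    adj σ (aeval M p) = aeval (adj σ M) (p.map σ) := by
  induction p using Polynomial.induction_on' with
  | add p q hp hq => rw [map_add, adj_add, hp, hq, Polynomial.map_add, map_add]
  | monomial k c =>
    rw [Polynomial.map_monomial, aeval_monomial, aeval_monomial, ← Algebra.smul_def, ← Algebra.smul_def, adj_smul,
      adj_pow]

theorem pow_mul_aeval_inv (g : GL (Fin n) K) (p : K[X]) :
    (g : Matrix (Fin n) (Fin n) K) ^ p.natDegree * aeval ((g⁻¹ : GL (Fin n) K) : Matrix (Fin n) (Fin n) K) p =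
      aeval (g : Matrix (Fin n) (Fin n) K) p.reverse := by
  rw [aeval_eq_sum_range, aeval_eq_sum_range' (n := p.natDegree + 1) (Nat.lt_succ_of_le (reverse_natDegree_le p)),
    Finset.mul_sum]
  conv_rhs => rw [← Finset.sum_range_reflect]
  refine Finset.sum_congr rfl fun i hi => ?_
  have hi' : i ≤ p.natDegree := Nat.le_of_lt_succ (Finset.mem_range.mp hi)
  rw [mul_smul_comm, coeff_reverse, revAt_le (by omega),
    show p.natDegree - (p.natDegree + 1 - 1 - i) = i by omega, show p.natDegree + 1 - 1 - i = p.natDegree - i by omega]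
  congr 1
  conv_lhs => rw [← Nat.sub_add_cancel hi', pow_add, mul_assoc]
  rw [← Units.val_pow_eq_pow_val g i, ← Units.val_pow_eq_pow_val g⁻¹ i, ← Units.val_mul, inv_pow, mul_inv_cancel,
    Units.val_one, mul_one]

/-- The adjoint of a polynomial in a unitary matrix is a unit times the twisted polynomial. -/
theorem adj_aeval_unitary {g : GL (Fin n) K} (hg : adjU σ g * g = 1) {p : K[X]} (h0 : p.coeff 0 ≠ 0) :
    ∃ u : GL (Fin n) K, aeval (g : Matrix (Fin n) (Fin n) K) (tw σ p) =
      (u : Matrix (Fin n) (Fin n) K) * adj σ (aeval (g : Matrix (Fin n) (Fin n) K) p) := by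
  have hne : (σ (p.coeff 0))⁻¹ ≠ 0 := inv_ne_zero ((_root_.map_ne_zero σ).mpr h0)
  have hadj : adj σ (g : Matrix (Fin n) (Fin n) K) = ((g⁻¹ : GL (Fin n) K) : Matrix (Fin n) (Fin n) K) :=
    congrArg Units.val (eq_inv_of_mul_eq_one_left hg)
  refine ⟨Units.map (algebraMap K (Matrix (Fin n) (Fin n) K)).toMonoidHom (Units.mk0 _ hne) * g ^ p.natDegree, ?_⟩
  rw [Units.val_mul, Units.val_pow_eq_pow_val, adj_aeval, hadj, mul_assoc,
    ← natDegree_map_eq_of_injective σ.injective p, pow_mul_aeval_inv, tw, map_mul, aeval_C]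
  rfl

variable [Fintype K]

theorem rank_adj (hσ : ∀ x, σ (σ x) = x) (M : Matrix (Fin n) (Fin n) K) : (adj σ M).rank = M.rank := by
  classical
  have hrk : ∀ N : Matrix (Fin n) (Fin n) K, N.rank + Module.finrank K (LinearMap.ker N.mulVecLin) = n := fun N => by
    rw [Matrix.rank, LinearMap.finrank_range_add_finrank_ker, Module.finrank_fin_fun]
  have hcard : Nat.card (LinearMap.ker (adj σ M).mulVecLin) = Nat.card (LinearMap.ker Mᵀ.mulVecLin) := by
    refine Nat.card_congr
      { toFun := fun v => ⟨σ ∘ v.1, LinearMap.mem_ker.mpr ?_⟩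
        invFun := fun v => ⟨σ ∘ v.1, LinearMap.mem_ker.mpr ?_⟩
        left_inv := fun v => Subtype.ext (funext fun i => hσ _)
        right_inv := fun v => Subtype.ext (funext fun i => hσ _) }
    · have h := LinearMap.mem_ker.mp v.2
      rw [Matrix.mulVecLin_apply] at h ⊢
      rw [← adj_map σ hσ M, ← comp_mulVec, h]
      exact funext fun i => map_zero σ
    · have h := LinearMap.mem_ker.mp v.2
      rw [Matrix.mulVecLin_apply] at h ⊢
      rw [show adj σ M = Mᵀ.map σ from rfl, ← comp_mulVec, h]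
      exact funext fun i => map_zero σ
  rw [Module.natCard_eq_pow_finrank (K := K), Module.natCard_eq_pow_finrank (K := K) (V := LinearMap.ker Mᵀ.mulVecLin)] at hcard
  have hpow := Nat.pow_right_injective (Nat.card_eq_fintype_card (α := K) ▸ Fintype.one_lt_card : 2 ≤ Nat.card K) hcard
  have h1 := hrk (adj σ M)
  have h2 := hrk Mᵀ
  rw [Matrix.rank_transpose] at h2
  omega

/-- A polynomial and its twist have the same rank at a unitary matrix. -/
theorem rank_aeval_tw (hσ : ∀ x, σ (σ x) = x) {g : GL (Fin n) K} (hg : adjU σ g * g = 1) {p : K[X]}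
    (h0 : p.coeff 0 ≠ 0) :
    (aeval (g : Matrix (Fin n) (Fin n) K) (tw σ p)).rank = (aeval (g : Matrix (Fin n) (Fin n) K) p).rank := by
  obtain ⟨u, hu⟩ := adj_aeval_unitary σ hg h0
  rw [hu, Matrix.rank_mul_eq_right_of_isUnit_det _ _ (Matrix.isUnits_det_units u), rank_adj σ hσ]

/-- The adjoint of a polynomial in a unitary matrix is a polynomial in it. -/
theorem exists_star {g : GL (Fin n) K} (hg : adjU σ g * g = 1) : ∀ p : K[X], ∃ p' : K[X],
    adj σ (aeval (g : Matrix (Fin n) (Fin n) K) p) = aeval (g : Matrix (Fin n) (Fin n) K) p' := fun p => by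
  refine ⟨(p.map σ).comp (X ^ (orderOf g - 1)), ?_⟩
  have hpow : g ^ (orderOf g - 1) = g⁻¹ := by
    rw [eq_inv_iff_mul_eq_one, ← pow_succ, Nat.sub_add_cancel (orderOf_pos g), pow_orderOf_eq_one]
  rw [adj_aeval, aeval_comp, map_pow, aeval_X, ← Units.val_pow_eq_pow_val, hpow]
  congr 2
  exact congrArg Units.val (eq_inv_of_mul_eq_one_left hg)

theorem tw_one : tw σ (1 : K[X]) = 1 := by
  rw [tw, Polynomial.map_one, coeff_one_zero, map_one, inv_one, map_one, one_mul, ← C_1, reverse_C]

theorem tw_pow (p : K[X]) : ∀ k : ℕ, tw σ (p ^ k) = tw σ p ^ k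
  | 0 => by rw [pow_zero, pow_zero, tw_one]
  | k + 1 => by rw [pow_succ, tw_mul, tw_pow p k, pow_succ]

theorem tw_prod {α : Type*} (s : Finset α) (f : α → K[X]) : tw σ (∏ i ∈ s, f i) = ∏ i ∈ s, tw σ (f i) := by
  classical
  induction s using Finset.induction with
  | empty => rw [Finset.prod_empty, Finset.prod_empty, tw_one]
  | insert a s ha ih => rw [Finset.prod_insert ha, Finset.prod_insert ha, tw_mul, ih]

theorem irreducible_tw (hσ : ∀ x, σ (σ x) = x) {p : K[X]} (hm : p.Monic) (hi : Irreducible p) (h0 : p.coeff 0 ≠ 0) :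
    Irreducible (tw σ p) := by
  have hd := natDegree_tw σ h0
  have hc : (tw σ p).coeff 0 ≠ 0 := by
    rw [coeff_zero_tw σ hm h0]; exact inv_ne_zero ((_root_.map_ne_zero σ).mpr h0)
  refine ⟨fun hu => ?_, fun a b hab => ?_⟩
  · have := natDegree_eq_zero_of_isUnit hu
    have := hi.natDegree_pos
    omega
  · have ha := coeff_zero_ne_of_dvd ⟨b, hab⟩ hc
    have hb := coeff_zero_ne_of_dvd (Dvd.intro_left a hab.symm) hc
    have h := congrArg (tw σ) hab
    rw [tw_tw σ hσ hm h0, tw_mul] at h
    have key : ∀ f : K[X], f.coeff 0 ≠ 0 → IsUnit (tw σ f) → IsUnit f := fun f hf hu => by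
      rw [isUnit_iff_degree_eq_zero, degree_eq_natDegree (fun e => hf (by rw [e, coeff_zero])), ← natDegree_tw σ hf,
        natDegree_eq_zero_of_isUnit hu]
      rfl
    exact (hi.isUnit_or_isUnit h).imp (key a ha) (key b hb)

end CfsgLib.Classical.SUClassBound
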