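import Cfsg.Agent.Lib.Classical.SUClassBound.Adjoint

/-!
Determinants of the centralizer of a unitary matrix with an elementary divisor of exponent one.
-/

set_option autoImplicit false
set_option linter.style.haveILetI false
set_option linter.unusedSectionVars false

namespace CfsgLib.Classical.SUClassBound

open Polynomial Matrix CfsgLib.Classical.UnitaryConj CfsgLib.Classical.UnitaryTwistPoly
open CfsgLib.Classical.RestrictScalars
open scoped MatrixGroups

variable {K : Type*} [Field K] {n : ℕ}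

/-- The polynomial orbit of a vector. -/
noncomputable def orbit (A : Matrix (Fin n) (Fin n) K) (w : Fin n → K) : K[X] →ₗ[K] (Fin n → K) where
  toFun p := aeval A p *ᵥ w
  map_add' p r := by rw [map_add, Matrix.add_mulVec]
  map_smul' c p := by rw [map_smul, Matrix.smul_mulVec, RingHom.id_apply]

theorem orbit_apply (A : Matrix (Fin n) (Fin n) K) (w : Fin n → K) (p : K[X]) : orbit A w p = aeval A p *ᵥ w := rfl

theorem orbit_mul (A : Matrix (Fin n) (Fin n) K) (w : Fin n → K) (p r : K[X]) :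
    orbit A w (p * r) = aeval A p *ᵥ orbit A w r := by
  rw [orbit_apply, orbit_apply, map_mul, Matrix.mulVec_mulVec]

variable {A : Matrix (Fin n) (Fin n) K} {P : K[X]} {w : Fin n → K}

theorem orbit_mulVec_eq_zero (hw : aeval A P *ᵥ w = 0) (b : K[X]) : aeval A P *ᵥ orbit A w b = 0 := by
  rw [← orbit_mul, mul_comm, orbit_mul, orbit_apply A w P, hw, Matrix.mulVec_zero]

theorem orbit_mul_P (hw : aeval A P *ᵥ w = 0) (b : K[X]) : orbit A w (b * P) = 0 := by
  rw [orbit_mul, orbit_apply A w P, hw, Matrix.mulVec_zero]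

theorem exists_inverse_orbit (hP : Irreducible P) (hw : aeval A P *ᵥ w = 0) {b : K[X]} (hb : ¬ P ∣ b) :
    ∃ u : K[X], aeval A u *ᵥ orbit A w b = w := by
  obtain ⟨r, u, hru⟩ := hP.coprime_iff_not_dvd.mpr hb
  refine ⟨u, ?_⟩
  have h := congrArg (orbit A w) hru
  rw [map_add, orbit_mul_P hw, zero_add, orbit_mul] at h
  rw [h, orbit_apply, map_one, Matrix.one_mulVec]

variable [Fintype K] (σ : K →+* K)

/-- The orthogonal of a submodule. -/
def perp (S : Submodule K (Fin n → K)) : Submodule K (Fin n → K) where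
  carrier := {x | ∀ s ∈ S, herm σ x s = 0}
  zero_mem' := fun s _ => by simp [herm]
  add_mem' := fun ha hb s hs => by rw [herm_add_left, ha s hs, hb s hs, add_zero]
  smul_mem' := fun c x hx s hs => by rw [herm_smul_left, hx s hs, mul_zero]

theorem isCompl_perp (S : Submodule K (Fin n → K)) (h : ∀ x ∈ S, (∀ s ∈ S, herm σ x s = 0) → x = 0) :
    IsCompl S (perp σ S) := by
  classical
  have hd : Disjoint S (perp σ S) := Submodule.disjoint_def.mpr fun x hx hx' => h x hx hx'
  refine Submodule.isCompl_iff_disjoint S (perp σ S) ?_ |>.mpr hd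
  let B := Module.finBasis K S
  let T : (Fin n → K) →ₗ[K] (Fin (Module.finrank K S) → K) :=
    { toFun := fun x i => herm σ x (B i).1
      map_add' := fun x y => funext fun i => herm_add_left σ _ _ _
      map_smul' := fun c x => funext fun i => herm_smul_left σ _ _ _ }
  have hker : LinearMap.ker T ≤ perp σ S := by
    intro x hx s hs
    have h' := B.sum_repr ⟨s, hs⟩
    have h'' : s = ∑ i, B.repr ⟨s, hs⟩ i • (B i).1 := by
      have e := congrArg Subtype.val h'
      rw [AddSubmonoidClass.coe_finsetSum] at e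
      exact e.symm
    rw [h'']
    let L : (Fin n → K) →+ K := ⟨⟨fun v => herm σ x v, herm_zero_right σ x⟩, herm_add_right σ x⟩
    show L _ = 0
    rw [map_sum]
    refine Finset.sum_eq_zero fun i _ => ?_
    show herm σ x _ = 0
    rw [herm_smul_right, show herm σ x (B i).1 = 0 from congrFun (LinearMap.mem_ker.mp hx) i, mul_zero]
  have h1 := Submodule.finrank_mono hker
  have h2 := T.finrank_range_add_finrank_ker
  have h3 := Submodule.finrank_le (LinearMap.range T)
  rw [Module.finrank_fin_fun] at h2 h3 ⊢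
  omega

theorem herm_perp_swap (hσ : ∀ x, σ (σ x) = x) {S : Submodule K (Fin n → K)} {t s : Fin n → K}
    (ht : t ∈ perp σ S) (hs : s ∈ S) : herm σ s t = 0 := by
  rw [← herm_comm σ hσ t s, ht s hs, map_zero]

/-- A multiplication on a non-degenerate invariant subspace, extended by the identity. -/
theorem exists_extension (hσ : ∀ x, σ (σ x) = x) {g : GL (Fin n) K} (hg : adjU σ g * g = 1)
    (S : Submodule K (Fin n → K))
    (hS : ∀ p : K[X], ∀ x ∈ S, aeval (g : Matrix (Fin n) (Fin n) K) p *ᵥ x ∈ S)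
    (hnd : ∀ x ∈ S, (∀ s ∈ S, herm σ x s = 0) → x = 0)
    (hPm : P.Monic) (hP : Irreducible P) (hwS : w ∈ S) (hw0 : w ≠ 0)
    (hw : aeval (g : Matrix (Fin n) (Fin n) K) P *ᵥ w = 0) (a : K[X])
    (ha : ∀ x ∈ S, ∃ b, aeval (g : Matrix (Fin n) (Fin n) K) a *ᵥ x - x = orbit (g : Matrix (Fin n) (Fin n) K) w b) :
    ∃ Z : Matrix (Fin n) (Fin n) K, Commute Z (g : Matrix (Fin n) (Fin n) K) ∧ Commute Z (adj σ Z) ∧
      Z.det = Algebra.norm K (AdjoinRoot.mk P a) := by
  classical
  set A := (g : Matrix (Fin n) (Fin n) K) with hA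
  have hc := isCompl_perp σ S hnd
  have hstar := exists_star σ hg
  have hperp : ∀ p : K[X], ∀ x ∈ perp σ S, aeval A p *ᵥ x ∈ perp σ S := fun p x hx s hs => by
    obtain ⟨p', hp'⟩ := hstar p
    rw [herm_mulVec σ hσ, hp']
    exact hx _ (hS p' s hs)
  let πl := S.projection (perp σ S) hc
  set π := LinearMap.toMatrix' πl with hπdef
  have hπ : ∀ x, π *ᵥ x = πl x := fun x => by
    rw [← Matrix.toLin'_apply, hπdef, Matrix.toLin'_toMatrix']
  have hdec : ∀ x, ∃ s t, x = s + t ∧ s ∈ S ∧ t ∈ perp σ S := fun x => by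
    have hx : x ∈ S ⊔ perp σ S := by rw [hc.sup_eq_top]; exact Submodule.mem_top
    obtain ⟨s, hs, t, ht, rfl⟩ := Submodule.mem_sup.mp hx
    exact ⟨s, t, rfl, hs, ht⟩
  have hπst : ∀ s t, s ∈ S → t ∈ perp σ S → π *ᵥ (s + t) = s := fun s t hs ht => by
    rw [hπ, map_add]
    simp only [πl, Submodule.projection_apply_of_mem_left hc hs, Submodule.projection_apply_of_mem_right hc ht, add_zero]
  have hπadj : adj σ π = π := by
    refine Matrix.toLin'.injective (LinearMap.ext fun y => sub_eq_zero.mp (herm_nondeg σ hσ fun x => ?_))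
    rw [Matrix.toLin'_apply, Matrix.toLin'_apply, sub_eq_add_neg, ← neg_one_smul K (π *ᵥ y), herm_add_right,
      herm_smul_right, ← herm_mulVec σ hσ, map_neg, map_one, neg_one_mul, ← sub_eq_add_neg, sub_eq_zero]
    obtain ⟨s, t, rfl, hs, ht⟩ := hdec x
    obtain ⟨s', t', rfl, hs', ht'⟩ := hdec y
    rw [hπst s t hs ht, hπst s' t' hs' ht', herm_add_right, herm_add_left, ht s' hs', add_zero,
      herm_perp_swap σ hσ ht' hs, add_zero]
  have hππ : π * π = π := Matrix.toLin'.injective (LinearMap.ext fun x => by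
    obtain ⟨s, t, rfl, hs, ht⟩ := hdec x
    have hss : π *ᵥ s = s := by simpa using hπst s 0 hs (zero_mem _)
    rw [Matrix.toLin'_apply, Matrix.toLin'_apply, ← Matrix.mulVec_mulVec, hπst s t hs ht, hss])
  have hπM : ∀ p : K[X], Commute π (aeval A p) := fun p => Matrix.toLin'.injective (LinearMap.ext fun x => by
    obtain ⟨s, t, rfl, hs, ht⟩ := hdec x
    rw [Matrix.toLin'_apply, Matrix.toLin'_apply, ← Matrix.mulVec_mulVec, ← Matrix.mulVec_mulVec, hπst s t hs ht,
      Matrix.mulVec_add, hπst _ _ (hS p s hs) (hperp p t ht)])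
  let F : K[X] → Matrix (Fin n) (Fin n) K := fun p => aeval A p * π + (1 - π)
  have hF : ∀ p r, F p * F r = F (p * r) := fun p r => by
    have h1 : aeval A p * π * (aeval A r * π) = aeval A (p * r) * π := by
      rw [map_mul, mul_assoc (aeval A p), ← mul_assoc π, (hπM r).eq, mul_assoc _ π, hππ, ← mul_assoc]
    have h2 : aeval A p * π * (1 - π) = 0 := by rw [mul_sub, mul_one, mul_assoc, hππ, sub_self]
    have h3 : (1 - π) * (aeval A r * π) = 0 := by
      rw [sub_mul, one_mul, ← mul_assoc π, (hπM r).eq, mul_assoc _ π, hππ, sub_self]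
    have h4 : (1 - π) * (1 - π) = 1 - π := by rw [sub_mul, one_mul, mul_sub, mul_one, hππ, sub_self, sub_zero]
    simp only [F]
    rw [add_mul, mul_add, mul_add, h1, h2, h3, h4, add_zero, zero_add]
  obtain ⟨a', ha'⟩ := hstar a
  have hadjF : adj σ (F a) = F a' := by
    have e : adj σ (1 - π) = 1 - π := by
      rw [sub_eq_add_neg, ← neg_one_smul K π, adj_add, adj_one, adj_smul, hπadj, map_neg, map_one]
    simp only [F]
    rw [adj_add, e, adj_mul, hπadj, ha', (hπM a').eq]
  refine ⟨F a, ?_, ?_, ?_⟩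
  · have h1 : Commute π A := by simpa using hπM X
    have h2 : Commute (aeval A a) A := by
      simpa using (Commute.all a (X : K[X])).map (aeval A)
    exact (h2.mul_left h1).add_left ((Commute.one_left A).sub_left h1)
  · rw [hadjF]
    show F a * F a' = F a' * F a
    rw [hF, hF, mul_comm]
  · have hfin : Module.Finite K (AdjoinRoot P) := hPm.finite_adjoinRoot
    let φ : AdjoinRoot P →ₗ[K] (Fin n → K) := orbit A w ∘ₗ AdjoinRoot.modByMonicHom hPm
    have hφ : ∀ b, φ (AdjoinRoot.mk P b) = orbit A w b := fun b => by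
      show orbit A w (AdjoinRoot.modByMonicHom hPm (AdjoinRoot.mk P b)) = _
      rw [AdjoinRoot.modByMonicHom_mk, modByMonic_eq_sub_mul_div, map_sub, mul_comm, orbit_mul_P hw, sub_zero]
    have hFS : ∀ x ∈ S, F a *ᵥ x = aeval A a *ᵥ x := fun x hx => by
      have := hπst x 0 hx (zero_mem _)
      rw [add_zero] at this
      simp only [F, Matrix.add_mulVec, Matrix.sub_mulVec, Matrix.one_mulVec, ← Matrix.mulVec_mulVec, this, sub_self,
        add_zero]
    rw [← LinearMap.det_toLin', Algebra.norm_apply, SLClassBound.det_of_exact φ (LinearMap.range φ).mkQ ?_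
      (Submodule.mkQ_surjective _) (Submodule.ker_mkQ _).symm
      (Algebra.lmul K (AdjoinRoot P) (AdjoinRoot.mk P a)) _ LinearMap.id ?_ ?_, LinearMap.det_id, mul_one]
    · rw [injective_iff_map_eq_zero]
      intro y hy
      obtain ⟨b, rfl⟩ := AdjoinRoot.mk_surjective y
      rw [hφ] at hy
      by_contra hne
      obtain ⟨u, hu⟩ := exists_inverse_orbit hP hw (fun hd => hne (AdjoinRoot.mk_eq_zero.mpr hd))
      rw [hy, Matrix.mulVec_zero] at hu
      exact hw0 hu.symm
    · intro y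
      obtain ⟨b, rfl⟩ := AdjoinRoot.mk_surjective y
      rw [Matrix.toLin'_apply, Algebra.coe_lmul_eq_mul, LinearMap.mul_apply', ← map_mul, hφ, hφ,
        hFS _ (show orbit A w b ∈ S from hS b w hwS), orbit_mul]
    · intro x
      rw [LinearMap.id_apply]
      refine (Submodule.Quotient.eq _).mpr ?_
      obtain ⟨s, t, rfl, hs, ht⟩ := hdec x
      obtain ⟨b, hb⟩ := ha s hs
      refine ⟨AdjoinRoot.mk P b, ?_⟩
      rw [hφ, ← hb]
      simp only [F, Matrix.toLin'_apply, Matrix.add_mulVec, Matrix.sub_mulVec, Matrix.one_mulVec,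
        ← Matrix.mulVec_mulVec, hπst s t hs ht]
      abel

section main

variable {F' : Type*} [Field F'] [Fintype F'] {q : ℕ} {a b : F'}

/-- An exponent one elementary divisor of a unitary matrix gives all unitary determinants. -/
theorem exists_centralizer_det (fr : Frame F' K q a b) {g : GL (Fin n) K} (hg : g ∈ Cfsg.GU n K q)
    (hPm : P.Monic) (hP : Irreducible P) (hP0 : P.coeff 0 ≠ 0) {v : Fin n → K}
    (hv : aeval (g : Matrix (Fin n) (Fin n) K) P *ᵥ v = 0)
    (hv' : ∀ x, aeval (g : Matrix (Fin n) (Fin n) K) P *ᵥ x ≠ v) {ε : K} (hε : fr.σ ε * ε = 1) :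
    ∃ y : GL (Fin n) K, y ∈ Cfsg.GU n K q ∧ Commute y g ∧ (y : Matrix (Fin n) (Fin n) K).det = ε := by
  classical
  have hgu := (mem_gu_iff fr.σ fr.σ_eq fr.σσ g).mp hg
  set A := (g : Matrix (Fin n) (Fin n) K) with hA
  have hσ := fr.σσ
  have hstar := exists_star fr.σ hgu
  have hσsurj : ∀ x : K, ∃ y, fr.σ y = x := fun x => ⟨fr.σ x, hσ x⟩
  set P' := tw fr.σ P with hP'
  have hP'm : P'.Monic := monic_tw fr.σ hP0
  have hP'i : Irreducible P' := irreducible_tw fr.σ hσ hPm hP hP0
  -- the kernel of the twisted polynomial is orthogonal to the range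
  have hkk : ∀ x, adj fr.σ (aeval A P) *ᵥ x = 0 ↔ aeval A P' *ᵥ x = 0 := fun x => by
    obtain ⟨u, hu⟩ := adj_aeval_unitary fr.σ hgu hP0
    rw [hP', hu, ← Matrix.mulVec_mulVec]
    constructor
    · intro h; rw [h, Matrix.mulVec_zero]
    · intro h
      have := congrArg (fun z => ((u⁻¹ : GL (Fin n) K) : Matrix (Fin n) (Fin n) K) *ᵥ z) h
      simpa [Matrix.mulVec_mulVec, ← mul_assoc] using this
  obtain ⟨v', hv'0, hvv'⟩ : ∃ v', aeval A P' *ᵥ v' = 0 ∧ herm fr.σ v v' ≠ 0 := by
    obtain ⟨f, hfv, hf⟩ := Submodule.exists_le_ker_of_notMem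
      (p := LinearMap.range (Matrix.toLin' (aeval A P))) (v := v) (fun h => by
        obtain ⟨x, hx⟩ := h
        exact hv' x (by rwa [Matrix.toLin'_apply] at hx))
    let v' : Fin n → K := fun i => fr.σ (f (Pi.single i 1))
    have hfh : ∀ x, f x = herm fr.σ x v' := fun x => by
      conv_lhs => rw [pi_eq_sum_univ x, map_sum]
      simp only [herm, dotProduct, Function.comp_apply, v', hσ, map_smul, smul_eq_mul]
      refine Finset.sum_congr rfl fun i _ => ?_
      congr 2
      funext j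
      simp [Pi.single_apply, eq_comm]
    refine ⟨v', ?_, by rw [← hfh]; exact hfv⟩
    rw [← hkk]
    refine herm_nondeg fr.σ hσ fun x => ?_
    rw [← herm_mulVec fr.σ hσ, ← hfh]
    exact LinearMap.mem_ker.mp (hf ⟨x, Matrix.toLin'_apply _ _⟩)
  -- the multiplier
  obtain ⟨c, hc0, hc⟩ := UnitarySemisimple.exists_quotient_eq fr hε
  have : Fact (Irreducible P) := ⟨hP⟩
  have : Module.Finite K (AdjoinRoot P) := hPm.finite_adjoinRoot
  have : Finite (AdjoinRoot P) := Module.finite_of_finite K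
  obtain ⟨y₀, hy₀⟩ := FiniteField.norm_surjective K (AdjoinRoot P) c
  obtain ⟨a₀, rfl⟩ := AdjoinRoot.mk_surjective y₀
  suffices key : ∃ Z : Matrix (Fin n) (Fin n) K, Commute Z A ∧ Commute Z (adj fr.σ Z) ∧ Z.det = c by
    obtain ⟨Z, hZA, hZZ, hZd⟩ := key
    let Zu : GL (Fin n) K := Matrix.GeneralLinearGroup.mkOfDetNeZero Z (by rw [hZd]; exact hc0)
    have h1 : Commute Zu g := Units.ext hZA
    have h2 : Commute Zu (adjU fr.σ Zu) := Units.ext hZZ
    have h3 : Commute (adjU fr.σ Zu) g := by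
      have h : Commute (adjU fr.σ Zu) (adjU fr.σ g) := by
        show _ * _ = _ * _
        rw [← adjU_mul, ← adjU_mul, h1.eq]
      rw [eq_inv_of_mul_eq_one_left hgu] at h
      simpa using h.inv_right
    refine ⟨Zu * (adjU fr.σ Zu)⁻¹, ?_, h1.mul_left h3.inv_left, ?_⟩
    · rw [mem_gu_iff fr.σ fr.σ_eq fr.σσ, adjU_mul, adjU_inv, adjU_adjU fr.σ fr.σσ]
      calc Zu⁻¹ * adjU fr.σ Zu * (Zu * (adjU fr.σ Zu)⁻¹) = Zu⁻¹ * (adjU fr.σ Zu * Zu) * (adjU fr.σ Zu)⁻¹ := by group
        _ = 1 := by rw [← h2.eq]; group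
    · rw [Units.val_mul, Matrix.det_mul, Matrix.coe_units_inv, Matrix.det_nonsing_inv, Ring.inverse_eq_inv']
      have e : (adjU fr.σ Zu : Matrix (Fin n) (Fin n) K).det = fr.σ c := by
        show (Z.map fr.σ)ᵀ.det = _
        rw [Matrix.det_transpose, ← RingHom.mapMatrix_apply, ← RingHom.map_det, hZd]
      rw [e, show (Zu : Matrix (Fin n) (Fin n) K).det = c from hZd, ← div_eq_mul_inv, hc]
  -- an inner product that does not vanish on polynomial orbits
  have hswap : ∀ (w x : Fin n → K) (R : K[X]), Irreducible R → aeval A R *ᵥ w = 0 → ∀ b : K[X], ¬ R ∣ b →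
      (∀ r : K[X], herm fr.σ (orbit A w b) (orbit A x r) = 0) → herm fr.σ w x = 0 := by
    intro w x R hR hw b hb h
    obtain ⟨u, hu⟩ := exists_inverse_orbit hR hw hb
    obtain ⟨u', hu'⟩ := hstar u
    rw [← hu, herm_mulVec fr.σ hσ, hu']
    exact h u'
  by_cases hPP : P' = P
  · -- an anisotropic vector
    rw [hPP] at hv'0
    obtain ⟨w, hw, hww⟩ : ∃ w, aeval A P *ᵥ w = 0 ∧ herm fr.σ w w ≠ 0 := by
      by_contra hne
      push Not at hne
      set h := herm fr.σ v v' with hh
      obtain ⟨z, hz⟩ : ∃ z : K, z + fr.σ z ≠ 0 := by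
        by_cases h2 : (1 : K) + 1 = 0
        · refine ⟨fr.ω, fun e => fr.ω_ne ?_⟩
          linear_combination e - fr.ω * h2
        · exact ⟨1, by rwa [map_one]⟩
      obtain ⟨c', hc'⟩ := hσsurj (z / h)
      have hsum := hne (v + c' • v') (by rw [Matrix.mulVec_add, Matrix.mulVec_smul, hv, hv'0, smul_zero, add_zero])
      rw [herm_add_left, herm_add_right, herm_add_right, herm_smul_left, herm_smul_left, herm_smul_right,
        herm_smul_right, hne v hv, hne v' hv'0, ← herm_comm fr.σ hσ v v', ← hh] at hsum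
      have e1 : fr.σ c' * h = z := by rw [hc', div_mul_cancel₀ _ hvv']
      have e2 : c' * fr.σ h = fr.σ z := by rw [← e1, map_mul, hσ]
      exact hz (by linear_combination hsum - e1 - e2)
    have hw0 : w ≠ 0 := fun e => hww (by rw [e, herm_zero_right])
    have hS : ∀ p : K[X], ∀ x ∈ LinearMap.range (orbit A w), aeval A p *ᵥ x ∈ LinearMap.range (orbit A w) := by
      rintro p _ ⟨r, rfl⟩
      exact ⟨p * r, orbit_mul A w p r⟩
    have hwS : w ∈ LinearMap.range (orbit A w) := ⟨1, by rw [orbit_apply, map_one, Matrix.one_mulVec]⟩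
    obtain ⟨Z, h1, h2, h3⟩ := exists_extension fr.σ hσ hgu _ hS (fun x hx hx' => by
      obtain ⟨b, rfl⟩ := hx
      by_contra hne
      refine hww (hswap w w P hP hw b (fun hd => hne ?_) fun r => hx' _ ⟨r, rfl⟩)
      obtain ⟨r, rfl⟩ := hd
      rw [mul_comm, orbit_mul_P hw]) hPm hP hwS hw0 hw a₀ (fun x hx => by
      obtain ⟨b, rfl⟩ := hx
      exact ⟨a₀ * b - b, by rw [map_sub, orbit_mul]⟩)
    exact ⟨Z, h1, h2, h3.trans hy₀⟩
  · -- a hyperbolic pair
    have hndvd : ¬ P' ∣ P := fun hd =>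
      hPP (eq_of_monic_of_associated hP'm hPm (hP'i.associated_of_dvd hP hd))
    have hndvd' : ¬ P ∣ P' := fun hd =>
      hPP (eq_of_monic_of_associated hPm hP'm (hP.associated_of_dvd hP'i hd)).symm
    have hiso : ∀ (R R' : K[X]), R' = tw fr.σ R → Irreducible R' → R.coeff 0 ≠ 0 → R.Monic → ¬ R' ∣ R →
        ∀ x z, aeval A R *ᵥ x = 0 → aeval A R *ᵥ z = 0 → herm fr.σ x z = 0 := by
      intro R R' hR' hR'i hR0 hRm hnd x z hx hz
      obtain ⟨r, u, hru⟩ := hR'i.coprime_iff_not_dvd.mpr hnd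
      have hz' : z = aeval A R' *ᵥ (aeval A r *ᵥ z) := by
        conv_lhs => rw [← Matrix.one_mulVec z, ← map_one (aeval (R := K) A), ← hru, map_add, Matrix.add_mulVec, map_mul _ u,
          ← Matrix.mulVec_mulVec z _ (aeval A R), hz, Matrix.mulVec_zero, add_zero, mul_comm, map_mul]
        rw [Matrix.mulVec_mulVec]
      rw [hz', herm_mulVec_right fr.σ hσ]
      have hc0' : R'.coeff 0 ≠ 0 := by
        rw [hR', coeff_zero_tw fr.σ hRm hR0]; exact inv_ne_zero ((_root_.map_ne_zero _).mpr hR0)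
      obtain ⟨u', hu'⟩ := adj_aeval_unitary fr.σ hgu hc0'
      have : tw fr.σ R' = R := by rw [hR', tw_tw fr.σ hσ hRm hR0]
      rw [this] at hu'
      have hx' : adj fr.σ (aeval A R') *ᵥ x = 0 := by
        rw [hu', ← Matrix.mulVec_mulVec] at hx
        have := congrArg (fun y => ((u'⁻¹ : GL (Fin n) K) : Matrix (Fin n) (Fin n) K) *ᵥ y) hx
        simpa [Matrix.mulVec_mulVec, ← mul_assoc] using this
      rw [hx']
      simp [herm]
    have hP'0 : P'.coeff 0 ≠ 0 := by
      rw [hP', coeff_zero_tw fr.σ hPm hP0]; exact inv_ne_zero ((_root_.map_ne_zero _).mpr hP0)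
    have hP'' : P = tw fr.σ P' := (tw_tw fr.σ hσ hPm hP0).symm
    have isoP := hiso P P' rfl hP'i hP0 hPm hndvd
    have isoP' := hiso P' P hP'' hP hP'0 hP'm hndvd'
    set S := LinearMap.range (orbit A v) ⊔ LinearMap.range (orbit A v') with hSdef
    have hS : ∀ p : K[X], ∀ x ∈ S, aeval A p *ᵥ x ∈ S := by
      intro p x hx
      obtain ⟨_, ⟨r, rfl⟩, _, ⟨r', rfl⟩, rfl⟩ := Submodule.mem_sup.mp hx
      rw [Matrix.mulVec_add, ← orbit_mul, ← orbit_mul]
      exact Submodule.add_mem_sup ⟨_, rfl⟩ ⟨_, rfl⟩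
    have hv0 : v ≠ 0 := fun e => hv' 0 (by rw [Matrix.mulVec_zero, e])
    have hnd : ∀ x ∈ S, (∀ s ∈ S, herm fr.σ x s = 0) → x = 0 := by
      intro x hx hx'
      obtain ⟨_, ⟨r, rfl⟩, _, ⟨r', rfl⟩, rfl⟩ := Submodule.mem_sup.mp hx
      have h1 : ∀ t, herm fr.σ (orbit A v r) (orbit A v' t) = 0 := fun t => by
        have := hx' _ (Submodule.mem_sup_right ⟨t, rfl⟩)
        rwa [herm_add_left, isoP' _ _ (orbit_mulVec_eq_zero hv'0 r') (orbit_mulVec_eq_zero hv'0 t), add_zero] at this
      have h2 : ∀ t, herm fr.σ (orbit A v' r') (orbit A v t) = 0 := fun t => by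
        have := hx' _ (Submodule.mem_sup_left ⟨t, rfl⟩)
        rwa [herm_add_left, isoP _ _ (orbit_mulVec_eq_zero hv r) (orbit_mulVec_eq_zero hv t), zero_add] at this
      have e1 : orbit A v r = 0 := by
        by_contra hne
        refine hvv' (hswap v v' P hP hv r (fun hd => hne ?_) h1)
        obtain ⟨u, rfl⟩ := hd
        rw [mul_comm, orbit_mul_P hv]
      have e2 : orbit A v' r' = 0 := by
        by_contra hne
        refine hvv' ?_
        rw [← herm_comm fr.σ hσ v' v, hswap v' v P' hP'i hv'0 r' (fun hd => hne ?_) h2, map_zero]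
        obtain ⟨u, rfl⟩ := hd
        rw [mul_comm, orbit_mul_P hv'0]
      rw [e1, e2, add_zero]
    obtain ⟨u, u', huu⟩ := hP.coprime_iff_not_dvd.mpr hndvd'
    set a₁ := a₀ * (u' * P') + u * P with ha₁
    have hwS : v ∈ S := Submodule.mem_sup_left ⟨1, by rw [orbit_apply, map_one, Matrix.one_mulVec]⟩
    obtain ⟨Z, h1, h2, h3⟩ := exists_extension fr.σ hσ hgu S hS hnd hPm hP hwS hv0 hv a₁ (fun x hx => by
      obtain ⟨_, ⟨r, rfl⟩, _, ⟨r', rfl⟩, rfl⟩ := Submodule.mem_sup.mp hx
      refine ⟨a₁ * r - r, ?_⟩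
      have e : a₁ * r' = r' + (a₀ - 1) * (u' * r') * P' := by
        rw [ha₁]; linear_combination r' * huu
      rw [map_sub, orbit_mul, Matrix.mulVec_add, ← orbit_mul A v' a₁ r', e, map_add (orbit A v'), orbit_mul_P hv'0]
      abel)
    refine ⟨Z, h1, h2, h3.trans ?_⟩
    rw [show AdjoinRoot.mk P a₁ = AdjoinRoot.mk P a₀ from AdjoinRoot.mk_eq_mk.mpr
      ⟨u * (1 - a₀), by rw [ha₁]; linear_combination a₀ * huu⟩, hy₀]

end main

end CfsgLib.Classical.SUClassBound
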