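import Cfsg.Agent.Lib.Classical.SUClassBound.Centralizer
import Cfsg.Agent.Lib.Classical.SLClassBound.Bound

/-!
The classes of `SU n q` and the tuples fixed by the twist.
-/

set_option autoImplicit false
set_option linter.style.haveILetI false
set_option linter.unusedSectionVars false

namespace CfsgLib.Classical.SUClassBound

open Polynomial Matrix CfsgLib.Classical.UnitaryConj CfsgLib.Classical.UnitaryTwistPoly
open CfsgLib.Classical.RestrictScalars CfsgLib.Classical.GLClassBound CfsgLib.Classical.SLClassBound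
open scoped MatrixGroups

variable {K : Type*} [Field K] [Fintype K] {F : Type*} [Field F] [Fintype F] {q : ℕ} {a b : F}

theorem finrank_ker_add_rank {n : ℕ} (C : Matrix (Fin n) (Fin n) K) (p : K[X]) :
    Module.finrank K (LinearMap.ker (aeval (Matrix.toLin' C) p)) + (aeval C p).rank = n := by
  rw [show aeval (Matrix.toLin' C) p = (aeval C p).mulVecLin from
    (Polynomial.aeval_algHom_apply (Matrix.toLinAlgEquiv' (R := K) (n := Fin n)).toAlgHom C p),
    Matrix.rank, add_comm, LinearMap.finrank_range_add_finrank_ker, Module.finrank_fin_fun]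

theorem aeval_conj {n : ℕ} (X : GL (Fin n) K) (A : Matrix (Fin n) (Fin n) K) (p : K[X]) :
    aeval ((X : Matrix (Fin n) (Fin n) K) * A * ((X⁻¹ : GL (Fin n) K) : Matrix (Fin n) (Fin n) K)) p =
      (X : Matrix (Fin n) (Fin n) K) * aeval A p * ((X⁻¹ : GL (Fin n) K) : Matrix (Fin n) (Fin n) K) := by
  induction p using Polynomial.induction_on' with
  | add p r hp hr => rw [map_add, map_add, hp, hr, mul_add, add_mul]
  | monomial k c =>
    rw [aeval_monomial, aeval_monomial, ← Algebra.smul_def, ← Algebra.smul_def, Units.conj_pow, mul_smul_comm,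
      smul_mul_assoc]

/-- The tuples of determinant one that are fixed by the twist. -/
abbrev FT (σ : K →+* K) (n : ℕ) : Type _ :=
  {t : Fin n → K[X] // IsTuple n n t ∧ tdet t = 1 ∧ ∀ k, tw σ (t k) = t k}

variable {n : ℕ}

/-- The determinant of a unitary matrix has norm one. -/
theorem det_norm (fr : Frame F K q a b) {g : GL (Fin n) K} (hg : g ∈ Cfsg.GU n K q) :
    fr.σ (g : Matrix (Fin n) (Fin n) K).det * (g : Matrix (Fin n) (Fin n) K).det = 1 := by
  have h1 := congrArg (fun z : GL (Fin n) K => (z : Matrix (Fin n) (Fin n) K).det)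
    ((mem_gu_iff fr.σ fr.σ_eq fr.σσ g).mp hg)
  simp only [Units.val_mul, Units.val_one, Matrix.det_mul, Matrix.det_one] at h1
  rw [show ((adjU fr.σ g : GL (Fin n) K) : Matrix (Fin n) (Fin n) K) = ((g : Matrix (Fin n) (Fin n) K).map fr.σ)ᵀ from rfl,
    Matrix.det_transpose, ← RingHom.mapMatrix_apply, ← RingHom.map_det] at h1
  exact h1

theorem norm_one_pow (fr : Frame F K q a b) {x : K} (h : fr.σ x * x = 1) : x ^ (q + 1) = 1 := by
  rw [pow_succ, ← fr.σ_eq, h]

/-- The class number of `SU` is at most the weighted number of fixed tuples. -/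
theorem card_su_le (fr : Frame F K q a b) (hK : Fintype.card K = q ^ 2) [NeZero n] :
    Nat.card (ConjClasses ↥(Cfsg.SU n K q)) ≤ Nat.card {t : FT fr.σ n // 1 ≤ (t.1 0).natDegree} +
      Nat.card {t : FT fr.σ n // ¬ 1 ≤ (t.1 0).natDegree} * (q + 1) := by
  classical
  obtain ⟨hinj, hspec⟩ := (exists_classMap (F := K) n).choose_spec
  let h : ConjClasses (GL (Fin n) K) → Fin n → K[X] := classTuple
  -- the classes meeting the unitary group
  let gc : ConjClasses ↥(Cfsg.SU n K q) → GL (Fin n) K := fun c => Matrix.SpecialLinearGroup.toGL c.out.1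
  have hgc : ∀ c, gc c ∈ Cfsg.GU n K q := fun c => c.out.2
  let C : ConjClasses ↥(Cfsg.SU n K q) → ConjClasses (GL (Fin n) K) := fun c => ConjClasses.mk (gc c)
  let UC := {D : ConjClasses (GL (Fin n) K) // ∃ g ∈ Cfsg.GU n K q, ConjClasses.mk g = D}
  choose R hRm hRC using fun D : UC => D.2
  let D : ConjClasses ↥(Cfsg.SU n K q) → UC := fun c => ⟨C c, gc c, hgc c, rfl⟩
  have hw' : ∀ c, ∃ w : GL (Fin n) K, w ∈ Cfsg.GU n K q ∧ w * R (D c) * w⁻¹ = gc c := fun c => by
    obtain ⟨⟨w, hw⟩, e⟩ := isConj_iff.mp ((gu_isConj_iff hK ⟨_, hRm (D c)⟩ ⟨_, hgc c⟩).mpr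
      (ConjClasses.mk_eq_mk_iff_isConj.mp (hRC (D c))))
    exact ⟨w, hw, congrArg Subtype.val e⟩
  choose w hwm hw using hw'
  have hconj : ∀ c, ∃ X : GL (Fin n) K, X * R (D c) * X⁻¹ = (C c).out := fun c => isConj_iff.mp
    (ConjClasses.mk_eq_mk_iff_isConj.mp ((hRC (D c)).trans (Quotient.out_eq (C c)).symm))
  choose X hX using hconj
  have hfix : ∀ c, IsTuple n n (h (C c)) ∧ tdet (h (C c)) = 1 ∧ ∀ k, tw fr.σ (h (C c) k) = h (C c) k := fun c => by
    obtain ⟨hT, hdet, -, -, ι, hι, P, e, E, hP, hE, hh⟩ := hspec (C c)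
    refine ⟨hT, ?_, fun k => ?_⟩
    · rw [show tdet (h (C c)) = _ from hdet]
      obtain ⟨Y, hY⟩ := isConj_iff.mp (ConjClasses.mk_eq_mk_iff_isConj.mp (Quotient.out_eq (C c)))
      rw [← Matrix.det_units_conj Y, ← Units.val_mul, ← Units.val_mul, hY]
      exact c.out.1.2
    · have hgu := (mem_gu_iff fr.σ fr.σ_eq fr.σσ _).mp (hRm (D c))
      have hrank : ∀ p : K[X], (aeval ((C c).out : Matrix (Fin n) (Fin n) K) p).rank =
          (aeval ((R (D c) : GL (Fin n) K) : Matrix (Fin n) (Fin n) K) p).rank := fun p => by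
        rw [← hX c, Units.val_mul, Units.val_mul, aeval_conj,
          Matrix.rank_mul_eq_left_of_isUnit_det _ _ (Matrix.isUnits_det_units _),
          Matrix.rank_mul_eq_right_of_isUnit_det _ _ (Matrix.isUnits_det_units _)]
      rw [show h (C c) k = _ from hh k, tw_prod]
      refine tuple_invariant (fun i => ⟨(hP i).1, (hP i).2.1⟩) _ E hE (tw fr.σ) (fun i => ⟨monic_tw _ (hP i).2.2,
        irreducible_tw fr.σ fr.σσ (hP i).1 (hP i).2.1 (hP i).2.2, natDegree_tw _ (hP i).2.2⟩) (fun i i' e' => ?_)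
        (fun i j => ?_) (Nat.succ_pos _)
      · rw [← tw_tw fr.σ fr.σσ (hP i).1 (hP i).2.2, e', tw_tw fr.σ fr.σσ (hP i').1 (hP i').2.2]
      · have h1 := finrank_ker_add_rank ((C c).out : Matrix (Fin n) (Fin n) K) (P i ^ j)
        have h2 := finrank_ker_add_rank ((C c).out : Matrix (Fin n) (Fin n) K) (tw fr.σ (P i) ^ j)
        rw [hrank] at h1 h2
        rw [← tw_pow, rank_aeval_tw fr.σ fr.σσ hgu (by
          rw [coeff_zero_eq_eval_zero, eval_pow, ← coeff_zero_eq_eval_zero]
          exact pow_ne_zero _ (hP i).2.2)] at h2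
        rw [← tw_pow] at *
        omega
  let T : ConjClasses ↥(Cfsg.SU n K q) → FT fr.σ n := fun c => ⟨h (C c), hfix c⟩
  let μ := {x : K // x ^ (q + 1) = 1}
  let Φ : ConjClasses ↥(Cfsg.SU n K q) → {t : FT fr.σ n // 1 ≤ (t.1 0).natDegree} ⊕
      ({t : FT fr.σ n // ¬ 1 ≤ (t.1 0).natDegree} × μ) := fun c =>
    if h1 : 1 ≤ ((T c).1 0).natDegree then Sum.inl ⟨T c, h1⟩
    else Sum.inr (⟨T c, h1⟩, ⟨_, norm_one_pow fr (det_norm fr (hwm c))⟩)
  -- classes with the same tuple and matching determinants coincide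
  have hsame : ∀ c d, C c = C d →
      (∃ y ∈ Cfsg.GU n K q, Commute y (R (D c)) ∧
        (w d : Matrix (Fin n) (Fin n) K).det * (y : Matrix (Fin n) (Fin n) K).det = (w c : Matrix (Fin n) (Fin n) K).det) →
      c = d := by
    rintro c d hcd ⟨y, hy, hyc, hyd⟩
    have hD : D c = D d := Subtype.ext hcd
    set u := w d * y * (w c)⁻¹ with hu
    have hum : u ∈ Cfsg.GU n K q := mul_mem (mul_mem (hwm d) hy) (inv_mem (hwm c))
    have hud : (u : Matrix (Fin n) (Fin n) K).det = 1 := by
      rw [hu, Units.val_mul, Units.val_mul, Matrix.det_mul, Matrix.det_mul, hyd, ← Matrix.det_mul, ← Units.val_mul,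
        mul_inv_cancel, Units.val_one, Matrix.det_one]
    let s : Matrix.SpecialLinearGroup (Fin n) K := ⟨_, hud⟩
    have hs : Matrix.SpecialLinearGroup.toGL s = u := Units.ext rfl
    have hsm : s ∈ Cfsg.SU n K q := by
      have h1 : Matrix.SpecialLinearGroup.toGL s ∈ Cfsg.GU n K q := hs ▸ hum
      exact h1
    rw [← show ConjClasses.mk c.out = c from Quotient.out_eq c,
      ← show ConjClasses.mk d.out = d from Quotient.out_eq d, ConjClasses.mk_eq_mk_iff_isConj, isConj_iff]
    refine ⟨⟨s, hsm⟩, Subtype.ext (Matrix.SpecialLinearGroup.toGL_injective ?_)⟩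
    simp only [Subgroup.coe_mul, Subgroup.coe_inv, map_mul, map_inv, hs]
    show u * gc c * u⁻¹ = gc d
    rw [← hw c, ← hw d, ← hD, hu]
    calc w d * y * (w c)⁻¹ * (w c * R (D c) * (w c)⁻¹) * (w d * y * (w c)⁻¹)⁻¹
        = w d * (y * R (D c) * y⁻¹) * (w d)⁻¹ := by group
      _ = w d * R (D c) * (w d)⁻¹ := by rw [hyc.eq, mul_inv_cancel_right]
  have hΦ : Function.Injective Φ := by
    intro c d hcd
    by_cases h1 : 1 ≤ ((T c).1 0).natDegree <;> by_cases h2 : 1 ≤ ((T d).1 0).natDegree
    · simp only [Φ, dif_pos h1, dif_pos h2, Sum.inl.injEq, Subtype.mk.injEq] at hcd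
      have hC : C c = C d := hinj (congrArg Subtype.val hcd)
      obtain ⟨-, -, -, -, ι, hι, P, e, E, hP, hE, hh⟩ := hspec (C c)
      obtain ⟨i, hi⟩ : ∃ i, e i = 1 := by
        by_contra hne
        push Not at hne
        have h3 : h (C c) 0 = _ := hh 0
        rw [Finset.filter_eq_empty_iff.mpr (fun i _ => by simpa using hne i), Finset.prod_empty] at h3
        change 1 ≤ (h (C c) 0).natDegree at h1
        rw [h3, natDegree_one] at h1
        omega
      set M := ((C c).out : Matrix (Fin n) (Fin n) K) with hM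
      set v := E.symm (Pi.single i 1) with hv
      have hmv : ∀ p x, aeval M p *ᵥ x = aeval (Matrix.toLin' M) p x := fun p x => by
        rw [show aeval (Matrix.toLin' M) p = (aeval M p).mulVecLin from
          (Polynomial.aeval_algHom_apply (Matrix.toLinAlgEquiv' (R := K) (n := Fin n)).toAlgHom M p),
          Matrix.mulVecLin_apply]
      have hE' := aeval_intertwine (Matrix.toLin' M) E hE (P i)
      have hPi : (Ideal.Quotient.mk (Ideal.span {P i ^ e i}) (P i) : Cyc (P i ^ e i)) = 0 :=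
        Ideal.Quotient.eq_zero_iff_mem.mpr (Ideal.mem_span_singleton.mpr (by rw [hi, pow_one]))
      have hv0 : aeval M (P i) *ᵥ v = 0 := by
        rw [hmv, ← E.map_eq_zero_iff, hE', hv, E.apply_symm_apply]
        funext j
        rw [SLClassBound.diag_apply]
        rcases eq_or_ne j i with rfl | hj
        · rw [hPi, zero_mul, Pi.zero_apply]
        · rw [Pi.single_eq_of_ne hj, mul_zero, Pi.zero_apply]
      have hv1 : ∀ x, aeval M (P i) *ᵥ x ≠ v := fun x hx => by
        have h3 := congrFun (congrArg E hx) i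
        rw [hmv, hE', SLClassBound.diag_apply, hPi, zero_mul, hv, E.apply_symm_apply, Pi.single_eq_same] at h3
        have h4 : (1 : K[X]) ∈ Ideal.span ({P i ^ e i} : Set K[X]) :=
          Ideal.Quotient.eq_zero_iff_mem.mp (by rw [map_one]; exact h3.symm)
        rw [Ideal.mem_span_singleton, hi, pow_one] at h4
        exact (hP i).2.1.not_isUnit (isUnit_of_dvd_one h4)
      -- transfer to the unitary representative
      set A := ((R (D c) : GL (Fin n) K) : Matrix (Fin n) (Fin n) K) with hA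
      have hMA : M = (X c : Matrix (Fin n) (Fin n) K) * A * (((X c)⁻¹ : GL (Fin n) K) : Matrix (Fin n) (Fin n) K) := by
        rw [hM, ← hX c]; rfl
      set Xi := (((X c)⁻¹ : GL (Fin n) K) : Matrix (Fin n) (Fin n) K) with hXi
      have hXX : Xi * (X c : Matrix (Fin n) (Fin n) K) = 1 := Units.inv_mul (X c)
      have hXX' : (X c : Matrix (Fin n) (Fin n) K) * Xi = 1 := Units.mul_inv (X c)
      obtain ⟨y, hy, hyc, hyd⟩ := exists_centralizer_det fr (hRm (D c)) (hP i).1 (hP i).2.1 (hP i).2.2
        (v := Xi *ᵥ v) (by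
          have h3 := congrArg (fun z => Xi *ᵥ z) hv0
          rw [hMA, aeval_conj] at h3
          rw [Matrix.mulVec_mulVec, Matrix.mulVec_zero, ← mul_assoc, ← mul_assoc, hXX, one_mul] at h3
          rwa [Matrix.mulVec_mulVec])
        (fun x hx => hv1 ((X c : Matrix (Fin n) (Fin n) K) *ᵥ x) (by
          rw [hMA, aeval_conj, Matrix.mulVec_mulVec, mul_assoc _ Xi, hXX, mul_one, ← Matrix.mulVec_mulVec, hx,
            Matrix.mulVec_mulVec, hXX', Matrix.one_mulVec]))
        (ε := (w c : Matrix (Fin n) (Fin n) K).det * ((w d : Matrix (Fin n) (Fin n) K).det)⁻¹)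
        (by rw [map_mul, map_inv₀, mul_mul_mul_comm, det_norm fr (hwm c), ← _root_.mul_inv, det_norm fr (hwm d),
          inv_one, one_mul])
      exact hsame c d hC ⟨y, hy, hyc, by rw [hyd, mul_left_comm, mul_inv_cancel₀ (w d).det_ne_zero, mul_one]⟩
    · simp only [Φ, dif_pos h1, dif_neg h2, reduceCtorEq] at hcd
    · simp only [Φ, dif_neg h1, dif_pos h2, reduceCtorEq] at hcd
    · simp only [Φ, dif_neg h1, dif_neg h2, Sum.inr.injEq, Prod.mk.injEq, Subtype.mk.injEq] at hcd
      exact hsame c d (hinj (congrArg Subtype.val hcd.1)) ⟨1, one_mem _, Commute.one_left _, by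
        rw [Units.val_one, Matrix.det_one, mul_one]
        exact (congrArg Subtype.val hcd.2 :).symm⟩
  have : Finite {t : Fin n → K[X] // IsTuple n n t} := (tuple_finite_and_bound (F := K) rfl n n).1
  have : Finite (FT fr.σ n) := Finite.of_injective (β := {t : Fin n → K[X] // IsTuple n n t})
    (fun t => ⟨t.1, t.2.1⟩) fun x y e => Subtype.ext (congrArg Subtype.val e :)
  refine (Nat.card_le_card_of_injective Φ hΦ).trans ?_
  rw [Nat.card_sum, Nat.card_prod]
  refine Nat.add_le_add_left (Nat.mul_le_mul_left _ ?_) _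
  exact (card_roots_le (fun x : μ => x.1) Subtype.val_injective (k := q + 1) (Nat.succ_pos q) fun x => x.2).1

end CfsgLib.Classical.SUClassBound
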