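import Mathlib

/-!
The numbers bounding the tuples fixed by the twist.
-/

set_option autoImplicit false

namespace CfsgLib.Classical.SUClassBound

open Finset

/-- The number of fixed monic polynomials of degree `d`. -/
def cf (q : ℕ) : ℕ → ℕ
  | 0 => 1
  | d + 1 => (q + 1) * q ^ d

/-- The bound for fixed tuples on the exponents `M, …, M + j - 1`. -/
def bnd (q : ℕ) : ℕ → ℕ → ℕ → ℕ
  | 0, _, m => if m = 0 then 1 else 0
  | j + 1, M, m => ∑ d ∈ range (m / M + 1), cf q d * bnd q j (M + 1) (m - d * M)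

theorem bnd_small (q : ℕ) : ∀ j M m, m < M → bnd q j M m = if m = 0 then 1 else 0
  | 0, _, _, _ => rfl
  | j + 1, M, m, h => by
    rw [bnd, Nat.div_eq_of_lt h, zero_add, sum_range_one, cf, zero_mul, Nat.sub_zero, one_mul,
      bnd_small q j (M + 1) m (by omega)]

theorem bnd_succ (q : ℕ) : ∀ j M m, 1 ≤ M → m + 1 ≤ M + j → bnd q (j + 1) M m = bnd q j M m
  | 0, M, m, _, h => by rw [bnd_small q 1 M m (by omega)]; rfl
  | j + 1, M, m, hM, h => by
    show ∑ d ∈ range (m / M + 1), cf q d * bnd q (j + 1) (M + 1) (m - d * M) =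
      ∑ d ∈ range (m / M + 1), cf q d * bnd q j (M + 1) (m - d * M)
    refine sum_congr rfl fun d hd => ?_
    rw [bnd_succ q j (M + 1) (m - d * M) (by omega) (by omega)]

theorem bnd_stable (q : ℕ) {j M m : ℕ} (hM : 1 ≤ M) (h : m + 1 ≤ M + j) :
    ∀ k, bnd q (j + k) M m = bnd q j M m
  | 0 => rfl
  | k + 1 => by rw [← bnd_stable q hM h k, ← add_assoc, bnd_succ q (j + k) M m hM (by omega)]

/-- The normalized bound. -/
def u (q j M m : ℕ) : ℚ := bnd q j M m / (q : ℚ) ^ m

/-- The normalized coefficient. -/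
def w (q M d : ℕ) : ℚ := cf q d / (q : ℚ) ^ (d * M)

theorem u_nonneg (q j M m : ℕ) : 0 ≤ u q j M m := by unfold u; positivity

theorem w_nonneg (q M d : ℕ) : 0 ≤ w q M d := by unfold w; positivity

theorem u_succ {q : ℕ} (hq : 1 ≤ q) (j : ℕ) {M : ℕ} (hM : 1 ≤ M) (m : ℕ) :
    u q (j + 1) M m = ∑ d ∈ range (m / M + 1), w q M d * u q j (M + 1) (m - d * M) := by
  rw [u, bnd, Nat.cast_sum, sum_div]
  refine sum_congr rfl fun d hd => ?_
  have hdm : d * M ≤ m := (Nat.le_div_iff_mul_le hM).mp (Nat.le_of_lt_succ (mem_range.mp hd))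
  have hq' : (q : ℚ) ≠ 0 := by exact_mod_cast (by omega : q ≠ 0)
  rw [w, u, Nat.cast_mul, div_mul_div_comm, ← pow_add, Nat.add_sub_cancel' hdm]

theorem w_zero (q M : ℕ) : w q M 0 = 1 := by simp [w, cf]

theorem w_succ {q : ℕ} (hq : 1 ≤ q) {M : ℕ} (hM : 1 ≤ M) (d : ℕ) :
    w q M (d + 1) = (1 + 1 / (q : ℚ)) * (1 / (q : ℚ)) ^ ((d + 1) * (M - 1)) := by
  have hq' : (q : ℚ) ≠ 0 := by exact_mod_cast (by omega : q ≠ 0)
  obtain ⟨N, rfl⟩ : ∃ N, M = N + 1 := ⟨M - 1, by omega⟩
  rw [w, cf, Nat.add_sub_cancel, Nat.mul_succ, Nat.cast_mul, Nat.cast_pow, Nat.cast_add, Nat.cast_one, pow_add,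
    pow_succ, one_div_pow]
  field_simp

/-- The exponent gained when the field grows. -/
def ex (m : ℕ) : ℕ := min 2 ((m + 1) / 2)

theorem u_mono {k q : ℕ} (hk : 1 ≤ k) (hkq : k ≤ q) : ∀ j M m, 2 ≤ M →
    u q j M m ≤ ((k : ℚ) / q) ^ ex m * u k j M m := by
  have hk' : (0 : ℚ) < k := by exact_mod_cast hk
  have hq' : (0 : ℚ) < q := by exact_mod_cast (by omega : 0 < q)
  have hr : (k : ℚ) / q ≤ 1 := (div_le_one hq').mpr (by exact_mod_cast hkq)
  intro j
  induction j with
  | zero =>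
    intro M m _
    rcases Nat.eq_zero_or_pos m with rfl | hm
    · simp [u, bnd, ex]
    · simp [u, bnd, Nat.pos_iff_ne_zero.mp hm]
  | succ j ih =>
    intro M m hM
    rw [u_succ (by omega) j (by omega), u_succ hk j (by omega), mul_sum]
    refine sum_le_sum fun d hd => ?_
    have hdm : d * M ≤ m := (Nat.le_div_iff_mul_le (by omega)).mp (Nat.le_of_lt_succ (mem_range.mp hd))
    have h1 := ih (M + 1) (m - d * M) (by omega)
    rcases d with _ | d
    · simp only [zero_mul, Nat.sub_zero, w_zero, one_mul] at h1 ⊢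
      exact h1
    have hw : w q M (d + 1) ≤ ((k : ℚ) / q) ^ ((d + 1) * (M - 1)) * w k M (d + 1) := by
      rw [w_succ (by omega) (by omega), w_succ hk (by omega), mul_left_comm, ← mul_pow,
        show (k : ℚ) / q * (1 / k) = 1 / q by field_simp]
      refine mul_le_mul_of_nonneg_right (add_le_add_right ?_ _) (by positivity)
      exact one_div_le_one_div_of_le hk' (by exact_mod_cast hkq)
    refine (mul_le_mul hw h1 (u_nonneg _ _ _ _) (mul_nonneg (by positivity) (w_nonneg _ _ _))).trans ?_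
    have e : ex m ≤ (d + 1) * (M - 1) + ex (m - (d + 1) * M) := by
      obtain ⟨N, rfl⟩ : ∃ N, M = N + 1 := ⟨M - 1, by omega⟩
      have h2 : (d + 1) * (N + 1) = (d + 1) * N + (d + 1) := Nat.mul_succ _ _
      have h3 : d + 1 ≤ (d + 1) * N := Nat.le_mul_of_pos_right _ (by omega)
      rw [Nat.add_sub_cancel, ex, ex]
      omega
    have hp : ((k : ℚ) / q) ^ ((d + 1) * (M - 1) + ex (m - (d + 1) * M)) ≤ ((k : ℚ) / q) ^ ex m :=
      pow_le_pow_of_le_one (by positivity) hr e
    rw [pow_add] at hp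
    have h4 := mul_le_mul_of_nonneg_right hp (mul_nonneg (w_nonneg k M (d + 1)) (u_nonneg k j (M + 1) (m - (d + 1) * M)))
    linarith

/-- The factor of one exponent. -/
def fac (x : ℚ) (M : ℕ) : ℚ := (1 + x ^ M) / (1 - x ^ (M - 1))

theorem one_le_fac {x : ℚ} (h0 : 0 ≤ x) (h1 : x < 1) {M : ℕ} (hM : 2 ≤ M) : 1 ≤ fac x M := by
  have hy : x ^ (M - 1) < 1 := pow_lt_one₀ h0 h1 (by omega)
  have hy0 : 0 ≤ x ^ (M - 1) := pow_nonneg h0 _
  have hz : 0 ≤ x ^ M := pow_nonneg h0 _
  rw [fac, le_div_iff₀ (by linarith)]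
  linarith

theorem sum_w_le {q : ℕ} (hq : 2 ≤ q) {M : ℕ} (hM : 2 ≤ M) (N : ℕ) :
    ∑ d ∈ range N, w q M d ≤ fac (1 / q) M := by
  have hx0 : (0 : ℚ) ≤ 1 / q := by positivity
  have hx1 : (1 : ℚ) / q < 1 := by
    rw [div_lt_one (by positivity)]
    exact_mod_cast (by omega : 1 < q)
  set y := ((1 : ℚ) / q) ^ (M - 1) with hy
  have hy1 : y < 1 := pow_lt_one₀ hx0 hx1 (by omega)
  have hy0 : 0 ≤ y := pow_nonneg hx0 _
  have key : ∀ N, ∑ d ∈ range (N + 1), w q M d = 1 + (1 + 1 / (q : ℚ)) * ((y - y ^ (N + 1)) / (1 - y)) := fun N => by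
    induction N with
    | zero => simp [w_zero]
    | succ N ih =>
      rw [sum_range_succ, ih, w_succ (by omega) (by omega), mul_comm (N + 1) (M - 1), pow_mul, ← hy]
      field_simp [(by linarith : (1 : ℚ) - y ≠ 0)]
      ring
  rcases N with _ | N
  · simpa using le_trans zero_le_one (one_le_fac hx0 hx1 hM)
  · rw [key]
    have hxy : ((1 : ℚ) / q) ^ M = y * (1 / q) := by
      rw [hy, ← pow_succ, Nat.sub_add_cancel (by omega)]
    rw [fac, ← hy, hxy]
    have hp : 0 ≤ y ^ (N + 1) := pow_nonneg hy0 _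
    rw [le_div_iff₀ (by linarith)]
    field_simp [(by linarith : (1 : ℚ) - y ≠ 0)]
    nlinarith [mul_nonneg hp hx0, (by positivity : (0 : ℚ) ≤ q)]

/-- A bound for all sums on exponents at least `M`. -/
def SumLe (q M : ℕ) (B : ℚ) : Prop := ∀ j N, ∑ m ∈ range N, u q j M m ≤ B

theorem sum_zero_le (q M N : ℕ) : ∑ m ∈ range N, u q 0 M m ≤ 1 := by
  rcases N with _ | N
  · simp
  · rw [sum_range_succ']
    simp [u, bnd]

theorem sum_succ_le {q : ℕ} (hq : 2 ≤ q) {M : ℕ} (hM : 2 ≤ M) (j N : ℕ) {B : ℚ} (hB : 0 ≤ B)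
    (h : ∀ N', ∑ m ∈ range N', u q j (M + 1) m ≤ B) : ∑ m ∈ range N, u q (j + 1) M m ≤ fac (1 / q) M * B := by
  calc ∑ m ∈ range N, u q (j + 1) M m
      = ∑ m ∈ range N, ∑ d ∈ range N, if d * M ≤ m then w q M d * u q j (M + 1) (m - d * M) else 0 := by
        refine sum_congr rfl fun m hm => ?_
        rw [u_succ (by omega) j (by omega), ← sum_filter]
        refine sum_congr ?_ fun _ _ => rfl
        ext d
        rw [mem_filter, mem_range, mem_range, Nat.lt_succ_iff, Nat.le_div_iff_mul_le (by omega)]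
        have : d ≤ d * M := Nat.le_mul_of_pos_right _ (by omega)
        have := mem_range.mp hm
        omega
    _ = ∑ d ∈ range N, w q M d * ∑ m ∈ range N, if d * M ≤ m then u q j (M + 1) (m - d * M) else 0 := by
        rw [sum_comm]
        refine sum_congr rfl fun d _ => ?_
        rw [mul_sum]
        exact sum_congr rfl fun m _ => by rw [mul_ite, mul_zero]
    _ ≤ ∑ d ∈ range N, w q M d * B := by
        refine sum_le_sum fun d _ => mul_le_mul_of_nonneg_left ?_ (w_nonneg _ _ _)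
        rw [← sum_filter]
        refine le_trans (le_of_eq ?_) (h (N - d * M))
        refine sum_bij' (fun m _ => m - d * M) (fun m _ => m + d * M) ?_ ?_ ?_ ?_ fun _ _ => rfl
        all_goals intro m hm
        all_goals simp only [mem_filter, mem_range] at hm ⊢
        all_goals omega
    _ ≤ fac (1 / q) M * B := by
        rw [← sum_mul]
        exact mul_le_mul_of_nonneg_right (sum_w_le hq hM N) hB

theorem SumLe.step {q M : ℕ} {B : ℚ} (hq : 2 ≤ q) (hM : 2 ≤ M) (hB : 1 ≤ B) (h : SumLe q (M + 1) B) :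
    SumLe q M (fac (1 / q) M * B) := by
  have hx1 : (1 : ℚ) / q < 1 := by
    rw [div_lt_one (by positivity)]
    exact_mod_cast (by omega : 1 < q)
  intro j N
  rcases j with _ | j
  · exact (sum_zero_le q M N).trans (one_le_mul_of_one_le_of_one_le (one_le_fac (by positivity) hx1 hM) hB)
  · exact sum_succ_le hq hM j N (by linarith) (h j)

theorem sumLe_tail {q : ℕ} (hq : 2 ≤ q) {c : ℚ} (hc : 1 + 1 / (q : ℚ) ≤ c * (1 - 1 / (q : ℚ))) :
    ∀ {M : ℕ}, 2 ≤ M → c * (1 / (q : ℚ)) ^ (M - 1) < 1 → SumLe q M (1 / (1 - c * (1 / (q : ℚ)) ^ (M - 1))) := by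
  have hx0 : (0 : ℚ) < 1 / q := by positivity
  have hx1 : (1 : ℚ) / q < 1 := by
    rw [div_lt_one (by positivity)]
    exact_mod_cast (by omega : 1 < q)
  have hc0 : 0 ≤ c := by nlinarith
  intro M hM hcM j
  induction j generalizing M with
  | zero =>
    intro N
    refine (sum_zero_le q M N).trans ((le_div_iff₀ (by linarith)).mpr ?_)
    have : 0 ≤ c * (1 / (q : ℚ)) ^ (M - 1) := by positivity
    linarith
  | succ j ih =>
    intro N
    set x := (1 : ℚ) / q with hx
    set y := x ^ (M - 1) with hy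
    have hy0 : 0 ≤ y := by positivity
    have hy1 : y < 1 := pow_lt_one₀ hx0.le hx1 (by omega)
    have hyx : x ^ M = y * x := by rw [hy, ← pow_succ, Nat.sub_add_cancel (by omega)]
    have hcx : c * x ^ (M + 1 - 1) < 1 := by
      rw [Nat.add_sub_cancel, hyx]
      have : y * x ≤ y := by nlinarith
      nlinarith
    have h1 := ih (M := M + 1) (by omega) hcx
    refine (sum_succ_le hq hM j N (div_nonneg zero_le_one (by linarith)) h1).trans ?_
    rw [Nat.add_sub_cancel, fac, hyx, ← hy, div_mul_div_comm, mul_one]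
    rw [Nat.add_sub_cancel, hyx] at hcx
    rw [div_le_div_iff₀ (mul_pos (by linarith) (by linarith)) (by linarith)]
    nlinarith [mul_nonneg (mul_nonneg hy0 hy0) (mul_nonneg hc0 hx0.le),
      mul_le_mul_of_nonneg_left hc hy0]

theorem sum_two_le : SumLe 2 2 (551 / 100) := by
  have h := sumLe_tail (q := 2) le_rfl (c := 3) (by norm_num) (M := 10) (by norm_num) (by norm_num)
  replace h := h.step le_rfl (M := 9) (by norm_num) (by norm_num)
  replace h := h.step le_rfl (M := 8) (by norm_num) (by norm_num [fac])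
  replace h := h.step le_rfl (M := 7) (by norm_num) (by norm_num [fac])
  replace h := h.step le_rfl (M := 6) (by norm_num) (by norm_num [fac])
  replace h := h.step le_rfl (M := 5) (by norm_num) (by norm_num [fac])
  replace h := h.step le_rfl (M := 4) (by norm_num) (by norm_num [fac])
  replace h := h.step le_rfl (M := 3) (by norm_num) (by norm_num [fac])
  replace h := h.step le_rfl (M := 2) (by norm_num) (by norm_num [fac])
  exact fun j N => (h j N).trans (by norm_num [fac])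

theorem sum_three_le : SumLe 3 2 (21 / 10) := by
  have h := sumLe_tail (q := 3) (by norm_num) (c := 2) (by norm_num) (M := 5) (by norm_num) (by norm_num)
  replace h := h.step (by norm_num) (M := 4) (by norm_num) (by norm_num)
  replace h := h.step (by norm_num) (M := 3) (by norm_num) (by norm_num [fac])
  replace h := h.step (by norm_num) (M := 2) (by norm_num) (by norm_num [fac])
  exact fun j N => (h j N).trans (by norm_num [fac])

theorem small_two : ∀ n ∈ Icc 3 12, 100 * ((∑ j ∈ range n, 2 ^ (n - 1 - j) * bnd 2 (n - 1) 2 j) +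
    3 * bnd 2 (n - 1) 2 n) ≤ 826 * 2 ^ (n - 1) := by decide +kernel

theorem head_two : 4970 * 2 ^ 12 ≤ 1000 * ∑ j ∈ range 13, 2 ^ (12 - j) * bnd 2 11 2 j := by decide +kernel

/-- The final estimate for two. -/
theorem bound_two (n : ℕ) (hn : 3 ≤ n) :
    ∑ j ∈ range n, u 2 (n - 1) 2 j + 6 * u 2 (n - 1) 2 n ≤ 826 / 100 := by
  rcases le_or_gt n 12 with h | h
  · have e : ∀ j ∈ range n, u 2 (n - 1) 2 j = ((2 ^ (n - 1 - j) * bnd 2 (n - 1) 2 j : ℕ) : ℚ) / 2 ^ (n - 1) := by
      intro j hj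
      have hp : (2 : ℚ) ^ (n - 1) = 2 ^ (n - 1 - j) * 2 ^ j := by
        rw [← pow_add, Nat.sub_add_cancel (by have := mem_range.mp hj; omega)]
      rw [u, Nat.cast_mul, Nat.cast_pow, Nat.cast_ofNat, hp, mul_div_mul_left _ _ (by positivity)]
    have e2 : 6 * u 2 (n - 1) 2 n = ((3 * bnd 2 (n - 1) 2 n : ℕ) : ℚ) / 2 ^ (n - 1) := by
      have hp : (2 : ℚ) ^ n = 2 * 2 ^ (n - 1) := by
        rw [← pow_succ', Nat.sub_add_cancel (by omega)]
      rw [u, Nat.cast_mul, Nat.cast_ofNat, Nat.cast_ofNat, hp]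
      field_simp
      ring
    rw [sum_congr rfl e, ← sum_div, e2, ← add_div, div_le_iff₀ (by positivity)]
    have h1 := small_two n (mem_Icc.mpr ⟨hn, h⟩)
    have h1' := (Nat.cast_le (α := ℚ)).mpr h1
    push_cast at h1' ⊢
    linarith
  · have hW := sum_two_le (n - 1) (n + 1)
    rw [sum_range_succ] at hW
    have hhead : (4970 / 1000 : ℚ) ≤ ∑ j ∈ range 13, u 2 (n - 1) 2 j := by
      have e : ∀ j ∈ range 13, u 2 (n - 1) 2 j = ((2 ^ (12 - j) * bnd 2 11 2 j : ℕ) : ℚ) / 2 ^ 12 := by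
        intro j hj
        have hj' := mem_range.mp hj
        have hp : (2 : ℚ) ^ 12 = 2 ^ (12 - j) * 2 ^ j := by rw [← pow_add, Nat.sub_add_cancel (by omega)]
        rw [u, show n - 1 = 11 + (n - 12) by omega, bnd_stable 2 (by norm_num) (by omega), Nat.cast_mul,
          Nat.cast_pow, Nat.cast_ofNat, hp, mul_div_mul_left _ _ (by positivity)]
      rw [sum_congr rfl e, ← sum_div, le_div_iff₀ (by positivity)]
      have h1' := (Nat.cast_le (α := ℚ)).mpr head_two
      push_cast at h1' ⊢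
      linarith
    have hsub : ∑ j ∈ range 13, u 2 (n - 1) 2 j ≤ ∑ j ∈ range n, u 2 (n - 1) 2 j :=
      sum_le_sum_of_subset_of_nonneg (range_subset_range.mpr (by omega)) fun i _ _ => u_nonneg _ _ _ _
    linarith

/-- The final estimate for three. -/
theorem bound_three (n : ℕ) (hn : 3 ≤ n) :
    ∑ j ∈ range n, u 3 (n - 1) 2 j + 12 * u 3 (n - 1) 2 n ≤ 826 / 100 := by
  rcases (show n = 3 ∨ 4 ≤ n by omega) with rfl | h
  · norm_num [sum_range_succ, u, bnd, cf]
  · have hW := sum_three_le (n - 1) (n + 1)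
    rw [sum_range_succ] at hW
    have hhead : (159 / 100 : ℚ) ≤ ∑ j ∈ range 4, u 3 (n - 1) 2 j := by
      have e : ∀ j ∈ range 4, u 3 (n - 1) 2 j = u 3 2 2 j := by
        intro j hj
        have hj' := mem_range.mp hj
        rw [u, u, show n - 1 = 2 + (n - 3) by omega, bnd_stable 3 (by norm_num) (by omega)]
      rw [sum_congr rfl e]
      norm_num [sum_range_succ, u, bnd, cf]
    have hsub : ∑ j ∈ range 4, u 3 (n - 1) 2 j ≤ ∑ j ∈ range n, u 3 (n - 1) 2 j :=
      sum_le_sum_of_subset_of_nonneg (range_subset_range.mpr h) fun i _ _ => u_nonneg _ _ _ _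
    linarith

/-- The normalized final estimate. -/
theorem final_bound {q : ℕ} (hq : 2 ≤ q) (n : ℕ) (hn : 3 ≤ n) :
    ∑ j ∈ range n, u q (n - 1) 2 j + (q + 1) * q * u q (n - 1) 2 n ≤ 826 / 100 := by
  rcases (show q = 2 ∨ 3 ≤ q by omega) with rfl | hq3
  · have := bound_two n hn
    norm_num
    linarith
  · have hq' : (0 : ℚ) < q := by positivity
    have hq3' : (3 : ℚ) ≤ q := by exact_mod_cast hq3
    have hu := u_mono (k := 3) (by norm_num) hq3 (n - 1) 2
    have h1 : ∑ j ∈ range n, u q (n - 1) 2 j ≤ ∑ j ∈ range n, u 3 (n - 1) 2 j := sum_le_sum fun j _ =>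
      (hu j le_rfl).trans (mul_le_of_le_one_left (u_nonneg _ _ _ _)
        (pow_le_one₀ (by positivity) (by rw [Nat.cast_ofNat, div_le_one hq']; exact hq3')))
    have h2 := hu n le_rfl
    rw [show ex n = 2 by rw [ex]; omega, Nat.cast_ofNat, div_pow, div_mul_eq_mul_div, le_div_iff₀ (by positivity)] at h2
    have h3 := bound_three n hn
    have h4 := u_nonneg q (n - 1) 2 n
    have h6 : 3 * ((q : ℚ) * u q (n - 1) 2 n) ≤ q * (q * u q (n - 1) 2 n) :=
      mul_le_mul_of_nonneg_right hq3' (mul_nonneg hq'.le h4)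
    nlinarith

end CfsgLib.Classical.SUClassBound
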