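import Cfsg.Agent.Lib.Classical.SUClassBound.Classes
import Cfsg.Agent.Lib.Classical.SUClassBound.Numeric

/-!
Counting the tuples fixed by the twist.
-/

set_option autoImplicit false
set_option linter.style.haveILetI false
set_option linter.unusedSectionVars false

namespace CfsgLib.Classical.SUClassBound

open Polynomial CfsgLib.Classical.RestrictScalars CfsgLib.Classical.UnitaryTwistPoly
open CfsgLib.Classical.GLClassBound CfsgLib.Classical.SLClassBound

variable {K : Type*} [Field K] [Fintype K] {F : Type*} [Field F] [Fintype F] {q : ℕ} {a b : F}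

/-- The fixed monic polynomials with a given degree and constant. -/
abbrev Fxc (σ : K →+* K) (d : ℕ) (c : K) : Type _ :=
  {f : K[X] // f.Monic ∧ f.natDegree = d ∧ f.coeff 0 = c ∧ c ≠ 0 ∧ tw σ f = f}

theorem fxc_const {σ : K →+* K} {d : ℕ} {c : K} (f : Fxc σ d c) : c * σ c = 1 := by
  obtain ⟨f, hm, -, h0, hc, ht⟩ := f
  have h := coeff_zero_tw σ hm (h0 ▸ hc)
  rw [ht, h0] at h
  conv_lhs => arg 1; rw [h]
  exact inv_mul_cancel₀ ((_root_.map_ne_zero σ).mpr hc)

theorem fxc_coeff_injective (σ : K →+* K) (d : ℕ) (c : K) :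
    Function.Injective fun f : Fxc σ (d + 1) c => fun i : Fin d => f.1.coeff (i.1 + 1) := by
  rintro ⟨f, hm, hd, h0, _, _⟩ ⟨f', hm', hd', h0', _, _⟩ h
  refine Subtype.ext (Polynomial.ext fun i => ?_)
  show f.coeff i = f'.coeff i
  rcases i with _ | i
  · rw [h0, h0']
  rcases lt_trichotomy i d with hi | rfl | hi
  · exact congrFun h ⟨i, hi⟩
  · conv_lhs => rw [← hd, hm.coeff_natDegree]
    conv_rhs => rw [← hd', hm'.coeff_natDegree]
  · rw [coeff_eq_zero_of_natDegree_lt (by omega), coeff_eq_zero_of_natDegree_lt (by omega)]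

instance (σ : K →+* K) (d : ℕ) (c : K) : Finite (Fxc σ (d + 1) c) :=
  Finite.of_injective _ (fxc_coeff_injective σ d c)

theorem card_fxc_le (fr : Frame F K q a b) (hF : Fintype.card F = q) (hK : Fintype.card K = q ^ 2) (d : ℕ) (c : K) :
    Nat.card (Fxc fr.σ (d + 1) c) ≤ q ^ d := by
  rcases isEmpty_or_nonempty (Fxc fr.σ (d + 1) c) with h | ⟨⟨f₀⟩⟩
  · simp
  have he := fxc_const f₀
  rw [← UnitarySemisimple.card_fixed_vec fr hF hK d c he]
  refine Nat.card_le_card_of_injective (fun f => ⟨fun i : Fin d => f.1.coeff (i.1 + 1), fun i => ?_⟩) fun f g e =>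
    fxc_coeff_injective _ d c (congrArg Subtype.val e)
  obtain ⟨f, hm, hd, h0, hc, ht⟩ := f
  show f.coeff (i.1 + 1) = c * fr.σ (f.coeff (i.rev.1 + 1))
  conv_lhs => rw [← ht]
  rw [coeff_tw, hd, h0, revAt_le (by omega), inv_eq_of_mul_eq_one_left he,
    show d + 1 - (i.1 + 1) = i.rev.1 + 1 by simp [Fin.val_rev]; omega]

/-- The fixed monic polynomials of a given degree. -/
abbrev Fx (σ : K →+* K) (d : ℕ) : Type _ :=
  {f : K[X] // f.Monic ∧ f.natDegree = d ∧ f.coeff 0 ≠ 0 ∧ tw σ f = f}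

theorem card_fx_le (fr : Frame F K q a b) (hF : Fintype.card F = q) (hK : Fintype.card K = q ^ 2) (d : ℕ) :
    Finite (Fx fr.σ d) ∧ Nat.card (Fx fr.σ d) ≤ cf q d := by
  rcases d with _ | d
  · have : Subsingleton (Fx fr.σ 0) := ⟨fun f g => Subtype.ext
      ((f.2.1.natDegree_eq_zero.mp f.2.2.1).trans (g.2.1.natDegree_eq_zero.mp g.2.2.1).symm)⟩
    exact ⟨inferInstance, Finite.card_le_one_iff_subsingleton.mpr this⟩
  classical
  let μ := {x : K // x ^ (q + 1) = 1}
  let Φ : Fx fr.σ (d + 1) → (x : μ) × Fxc fr.σ (d + 1) x.1 := fun f =>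
    ⟨⟨f.1.coeff 0, norm_one_pow fr (by
      rw [mul_comm]; exact fxc_const (⟨f.1, f.2.1, f.2.2.1, rfl, f.2.2.2.1, f.2.2.2.2⟩ : Fxc fr.σ (d + 1) _))⟩,
      ⟨f.1, f.2.1, f.2.2.1, rfl, f.2.2.2.1, f.2.2.2.2⟩⟩
  have hΦ : Function.Injective Φ := fun f g e => Subtype.ext (congrArg (fun z => z.2.1) e)
  refine ⟨Finite.of_injective Φ hΦ, (Nat.card_le_card_of_injective Φ hΦ).trans ?_⟩
  rw [Nat.card_sigma]
  refine (Finset.sum_le_card_nsmul _ _ _ fun x _ => card_fxc_le fr hF hK d x.1).trans ?_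
  rw [smul_eq_mul, cf, Finset.card_univ, ← Nat.card_eq_fintype_card]
  exact Nat.mul_le_mul_right _
    (card_roots_le (fun x : μ => x.1) Subtype.val_injective (k := q + 1) (Nat.succ_pos q) fun x => x.2).1

/-- The fixed tuples on the exponents at least `M`. -/
abbrev G (σ : K →+* K) (n M m : ℕ) : Type _ :=
  {t : Fin n → K[X] // IsTuple n m t ∧ (∀ k, tw σ (t k) = t k) ∧ ∀ k : Fin n, k.1 + 1 < M → t k = 1}

instance (σ : K →+* K) (n M m : ℕ) : Finite (G σ n M m) := by
  have := finite_tuples (F := K) n m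
  exact Finite.of_injective (β := {t : Fin n → K[X] // IsTuple n m t}) (fun t => ⟨t.1, t.2.1⟩)
    fun x y h => Subtype.ext (congrArg Subtype.val h :)

theorem card_G_le (fr : Frame F K q a b) (hF : Fintype.card F = q) (hK : Fintype.card K = q ^ 2) (n : ℕ) :
    ∀ j M m, M + j = n + 1 → 1 ≤ M → Nat.card (G fr.σ n M m) ≤ bnd q j M m := by
  intro j
  induction j with
  | zero =>
    intro M m hMj _
    have h1 : ∀ t : G fr.σ n M m, ∀ k, t.1 k = 1 := fun t k => t.2.2.2 k (by omega)
    rcases eq_or_ne m 0 with rfl | hm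
    · rw [bnd, if_pos rfl]
      exact Finite.card_le_one_iff_subsingleton.mpr ⟨fun x y => Subtype.ext (funext fun k => by rw [h1, h1])⟩
    · have : IsEmpty (G fr.σ n M m) := ⟨fun t => hm (by
        have := t.2.1.2
        rw [Finset.sum_eq_zero fun k _ => by rw [h1 t k, natDegree_one, mul_zero]] at this
        exact this.symm)⟩
      simp
  | succ j ih =>
    intro M m hMj hM
    classical
    let k₀ : Fin n := ⟨M - 1, by omega⟩
    have hk₀ : k₀.1 + 1 = M := Nat.sub_add_cancel hM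
    have hd : ∀ t : G fr.σ n M m, (t.1 k₀).natDegree * M ≤ m ∧
        IsTuple n (m - (t.1 k₀).natDegree * M) (Function.update t.1 k₀ 1) ∧
        (∀ k, tw fr.σ (Function.update t.1 k₀ 1 k) = Function.update t.1 k₀ 1 k) ∧
        ∀ k : Fin n, k.1 + 1 < M + 1 → Function.update t.1 k₀ 1 k = 1 := fun t => by
      have h := t.2.1.2
      rw [← Finset.add_sum_erase _ _ (Finset.mem_univ k₀), hk₀, mul_comm] at h
      refine ⟨by omega, ⟨fun i => ?_, ?_⟩, fun i => ?_, fun i hi => ?_⟩
      · rcases eq_or_ne i k₀ with rfl | hne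
        · rw [Function.update_self]; exact ⟨monic_one, by simp⟩
        · rw [Function.update_of_ne hne]; exact t.2.1.1 i
      · rw [← Finset.add_sum_erase _ _ (Finset.mem_univ k₀), Function.update_self,
          Finset.sum_congr rfl (g := fun i : Fin n => (i.1 + 1) * (t.1 i).natDegree) fun i hi => by
            rw [Function.update_of_ne (Finset.ne_of_mem_erase hi)], natDegree_one, mul_zero, zero_add]
        omega
      · rcases eq_or_ne i k₀ with rfl | hne
        · rw [Function.update_self, tw_one]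
        · rw [Function.update_of_ne hne]; exact t.2.2.1 i
      · rcases eq_or_ne i k₀ with rfl | hne
        · rw [Function.update_self]
        · rw [Function.update_of_ne hne]
          exact t.2.2.2 i (by
            have : i.1 ≠ k₀.1 := fun e => hne (Fin.ext e)
            omega)
    have : ∀ d, Finite (Fx fr.σ d) := fun d => (card_fx_le fr hF hK d).1
    let S := (d : Fin (m / M + 1)) × (Fx fr.σ d.1 × G fr.σ n (M + 1) (m - d.1 * M))
    let f : G fr.σ n M m → S := fun t =>
      ⟨⟨(t.1 k₀).natDegree, Nat.lt_succ_of_le ((Nat.le_div_iff_mul_le (by omega)).mpr (hd t).1)⟩,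
        ⟨t.1 k₀, (t.2.1.1 k₀).1, rfl, (t.2.1.1 k₀).2, t.2.2.1 k₀⟩, ⟨_, (hd t).2⟩⟩
    have hf : Function.Injective f := fun t t' e => by
      have h1 : t.1 k₀ = t'.1 k₀ := congrArg (fun z : S => z.2.1.1) e
      have h2 : Function.update t.1 k₀ 1 = Function.update t'.1 k₀ 1 := congrArg (fun z : S => z.2.2.1) e
      refine Subtype.ext (funext fun i => ?_)
      rcases eq_or_ne i k₀ with rfl | hne
      · exact h1
      · have := congrFun h2 i
        rwa [Function.update_of_ne hne, Function.update_of_ne hne] at this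
    refine (Nat.card_le_card_of_injective f hf).trans ?_
    rw [Nat.card_sigma, bnd, ← Fin.sum_univ_eq_sum_range (fun d => cf q d * bnd q j (M + 1) (m - d * M))]
    refine Finset.sum_le_sum fun d _ => ?_
    rw [Nat.card_prod]
    exact Nat.mul_le_mul (card_fx_le fr hF hK d.1).2 (ih (M + 1) (m - d.1 * M) (by omega) (by omega))

variable {n : ℕ} [NeZero n]

instance (σ : K →+* K) : Finite (FT σ n) := by
  have := finite_tuples (F := K) n n
  exact Finite.of_injective (β := {t : Fin n → K[X] // IsTuple n n t}) (fun t => ⟨t.1, t.2.1⟩)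
    fun x y h => Subtype.ext (congrArg Subtype.val h :)

theorem tuple_zero_cast (k : Fin n) (hk : k.1 + 1 < 2) : k = 0 := Fin.ext (by rw [Fin.val_zero]; omega)

theorem card_ta (fr : Frame F K q a b) (hF : Fintype.card F = q) (hK : Fintype.card K = q ^ 2) :
    Nat.card {t : FT fr.σ n // 1 ≤ (t.1 0).natDegree} ≤
      ∑ d ∈ Finset.range n, q ^ d * bnd q (n - 1) 2 (n - 1 - d) := by
  classical
  have hn : 1 ≤ n := Nat.one_le_iff_ne_zero.mpr (NeZero.ne n)
  let r : {t : FT fr.σ n // 1 ≤ (t.1 0).natDegree} → Fin n → K[X] := fun t => Function.update t.1.1 0 1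
  have hd : ∀ t, (t.1.1 0).natDegree - 1 < n ∧ IsTuple n (n - 1 - ((t.1.1 0).natDegree - 1)) (r t) ∧
      (∀ k, tw fr.σ (r t k) = r t k) ∧ ∀ k : Fin n, k.1 + 1 < 2 → r t k = 1 := fun t => by
    have h := t.1.2.1.2
    rw [← Finset.add_sum_erase _ _ (Finset.mem_univ (0 : Fin n))] at h
    simp only [Fin.val_zero, zero_add, one_mul] at h
    have := t.2
    refine ⟨by omega, ⟨fun i => ?_, ?_⟩, fun i => ?_, fun i hi => ?_⟩
    · rcases eq_or_ne i 0 with rfl | hne
      · simp only [r, Function.update_self]; exact ⟨monic_one, by simp⟩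
      · simp only [r, Function.update_of_ne hne]; exact t.1.2.1.1 i
    · rw [← Finset.add_sum_erase _ _ (Finset.mem_univ (0 : Fin n)),
        Finset.sum_congr rfl (g := fun i : Fin n => (i.1 + 1) * (t.1.1 i).natDegree) fun i hi => by
          simp only [r, Function.update_of_ne (Finset.ne_of_mem_erase hi)]]
      simp only [r, Function.update_self, natDegree_one, mul_zero, zero_add]
      omega
    · rcases eq_or_ne i 0 with rfl | hne
      · simp only [r, Function.update_self, tw_one]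
      · simp only [r, Function.update_of_ne hne]; exact t.1.2.2.2 i
    · obtain rfl := tuple_zero_cast i hi
      simp only [r, Function.update_self]
  let cst : ℕ → (Fin n → K[X]) → K := fun d s => (-1) ^ (d + 1) * (tdet s)⁻¹
  have hc : ∀ t, (t.1.1 0).coeff 0 = cst ((t.1.1 0).natDegree - 1) (r t) := fun t => by
    have h := tdet_update_zero K n t.1.1 1
    rw [t.1.2.2.1, mul_one, show mu (1 : K[X]) = 1 by simp [mu]] at h
    have h' : (tdet (r t))⁻¹ = mu (t.1.1 0) := inv_eq_of_mul_eq_one_right h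
    simp only [cst]
    rw [h', mu, Nat.sub_add_cancel t.2, ← mul_assoc, ← mul_pow, neg_one_mul, neg_neg, one_pow, one_mul]
  let S := (d : Fin n) × (s : G fr.σ n 2 (n - 1 - d.1)) × Fxc fr.σ (d.1 + 1) (cst d.1 s.1)
  let f : {t : FT fr.σ n // 1 ≤ (t.1 0).natDegree} → S := fun t =>
    ⟨⟨(t.1.1 0).natDegree - 1, (hd t).1⟩, ⟨r t, (hd t).2⟩, t.1.1 0, (t.1.2.1.1 0).1,
      (Nat.sub_add_cancel t.2).symm, hc t, (hc t) ▸ (t.1.2.1.1 0).2, t.1.2.2.2 0⟩
  have hf : Function.Injective f := fun t t' e => by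
    have h1 : t.1.1 0 = t'.1.1 0 := congrArg (fun z : S => z.2.2.1) e
    have h2 : r t = r t' := congrArg (fun z : S => z.2.1.1) e
    refine Subtype.ext (Subtype.ext (funext fun i => ?_))
    rcases eq_or_ne i 0 with rfl | hne
    · exact h1
    · have := congrFun h2 i
      simpa only [r, Function.update_of_ne hne] using this
  refine (Nat.card_le_card_of_injective f hf).trans ?_
  rw [Nat.card_sigma, ← Fin.sum_univ_eq_sum_range (fun d => q ^ d * bnd q (n - 1) 2 (n - 1 - d))]
  refine Finset.sum_le_sum fun d _ => ?_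
  letI := Fintype.ofFinite (G fr.σ n 2 (n - 1 - d.1))
  rw [Nat.card_sigma]
  refine (Finset.sum_le_card_nsmul _ _ _ fun s _ => card_fxc_le fr hF hK d.1 _).trans ?_
  rw [smul_eq_mul, mul_comm, Finset.card_univ, ← Nat.card_eq_fintype_card]
  exact Nat.mul_le_mul_left _ (card_G_le fr hF hK n (n - 1) 2 _ (by omega) (by norm_num))

theorem card_tb (fr : Frame F K q a b) (hF : Fintype.card F = q) (hK : Fintype.card K = q ^ 2) :
    Nat.card {t : FT fr.σ n // ¬ 1 ≤ (t.1 0).natDegree} ≤ bnd q (n - 1) 2 n := by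
  have hn : 1 ≤ n := Nat.one_le_iff_ne_zero.mpr (NeZero.ne n)
  refine le_trans (Nat.card_le_card_of_injective (fun t => (⟨t.1.1, t.1.2.1, t.1.2.2.2, fun k hk => by
    obtain rfl := tuple_zero_cast k hk
    exact eq_one_of_degree_zero (t.1.2.1.1 0).1 (by have := t.2; omega)⟩ : G fr.σ n 2 n)) fun x y h =>
      Subtype.ext (Subtype.ext (congrArg Subtype.val h :))) (card_G_le fr hF hK n (n - 1) 2 n (by omega) (by norm_num))

theorem card_tb_two (σ : K →+* K) : Nat.card {t : FT σ 2 // ¬ 1 ≤ (t.1 0).natDegree} ≤ 2 := by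
  have h0 : ∀ t : {t : FT σ 2 // ¬ 1 ≤ (t.1 0).natDegree}, t.1.1 0 = 1 := fun t =>
    eq_one_of_degree_zero (t.1.2.1.1 0).1 (by have := t.2; omega)
  have h1 : ∀ t : {t : FT σ 2 // ¬ 1 ≤ (t.1 0).natDegree},
      t.1.1 1 = X + C ((t.1.1 1).coeff 0) ∧ (t.1.1 1).coeff 0 ^ 2 = 1 := fun t => by
    have hs := t.1.2.1.2
    simp [Fin.sum_univ_two, h0 t] at hs
    refine ⟨(t.1.2.1.1 1).1.eq_X_add_C (by omega), ?_⟩
    have hdet := t.1.2.2.1
    rw [tdet, Fin.prod_univ_two, h0 t, mu, mu, show (t.1.1 1).natDegree = 1 by omega] at hdet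
    simpa using hdet
  refine (card_roots_le (fun t => (t.1.1 1).coeff 0) (fun t t' e => ?_) one_le_two fun t => (h1 t).2).1
  refine Subtype.ext (Subtype.ext (funext fun k => ?_))
  fin_cases k
  · exact (h0 t).trans (h0 t').symm
  · simp only at e
    exact ((h1 t).1.trans (by rw [e])).trans (h1 t').1.symm

theorem card_su_bound (fr : Frame F K q a b) (hF : Fintype.card F = q) (hK : Fintype.card K = q ^ 2) (hn : 2 ≤ n) :
    100 * Nat.card (ConjClasses ↥(Cfsg.SU n K q)) ≤ 826 * q ^ (n - 1) := by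
  have hq : 2 ≤ q := hF ▸ Fintype.one_lt_card
  have hk := card_su_le (n := n) fr hK
  have hA := card_ta (n := n) fr hF hK
  rcases (show n = 2 ∨ 3 ≤ n by omega) with rfl | hn3
  · have hB := Nat.mul_le_mul_right (q + 1) (card_tb_two fr.σ)
    have e : ∑ d ∈ Finset.range 2, q ^ d * bnd q (2 - 1) 2 (2 - 1 - d) = q := by
      simp [Finset.sum_range_succ, bnd, cf]
    rw [e] at hA
    rw [show (2 : ℕ) - 1 = 1 from rfl, pow_one]
    omega
  · have hB := Nat.mul_le_mul_right (q + 1) (card_tb (n := n) fr hF hK)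
    rw [← Finset.sum_range_reflect] at hA
    have e : ∀ j ∈ Finset.range n, q ^ (n - 1 - j) * bnd q (n - 1) 2 (n - 1 - (n - 1 - j)) =
        q ^ (n - 1 - j) * bnd q (n - 1) 2 j := fun j hj => by
      rw [show n - 1 - (n - 1 - j) = j by have := Finset.mem_range.mp hj; omega]
    rw [Finset.sum_congr rfl e] at hA
    have hfin := final_bound hq n hn3
    have hqQ : (0 : ℚ) < (q : ℚ) ^ (n - 1) := by positivity
    have hsum : ((∑ j ∈ Finset.range n, q ^ (n - 1 - j) * bnd q (n - 1) 2 j : ℕ) : ℚ) =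
        (q : ℚ) ^ (n - 1) * ∑ j ∈ Finset.range n, u q (n - 1) 2 j := by
      rw [Nat.cast_sum, Finset.mul_sum]
      refine Finset.sum_congr rfl fun j hj => ?_
      have hp : (q : ℚ) ^ (n - 1) = (q : ℚ) ^ (n - 1 - j) * (q : ℚ) ^ j := by
        rw [← pow_add, Nat.sub_add_cancel (by have := Finset.mem_range.mp hj; omega)]
      rw [u, Nat.cast_mul, Nat.cast_pow, hp, mul_assoc, mul_div_cancel₀ _ (by positivity)]
    have hlast : ((bnd q (n - 1) 2 n * (q + 1) : ℕ) : ℚ) =
        (q : ℚ) ^ (n - 1) * ((q + 1) * q * u q (n - 1) 2 n) := by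
      have hp : (q : ℚ) ^ n = (q : ℚ) ^ (n - 1) * q := by rw [← pow_succ, Nat.sub_add_cancel (by omega)]
      rw [u, hp, Nat.cast_mul, Nat.cast_add, Nat.cast_one]
      field_simp
    have h := (Nat.cast_le (α := ℚ)).mpr (hk.trans (Nat.add_le_add hA hB))
    rw [Nat.cast_add, hsum, hlast, ← mul_add] at h
    have h2 := mul_le_mul_of_nonneg_left hfin hqQ.le
    rw [← Nat.cast_le (α := ℚ)]
    push_cast
    linarith

end CfsgLib.Classical.SUClassBound
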